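import Cfsg.Agent.Lib.Quad.Pair
import Cfsg.Agent.Lib.Root.Chain

/-!
# The root subgroups of a quadratic pair
-/

set_option autoImplicit false
set_option linter.unusedSectionVars false

namespace Cfsg.Lib.Quad

open Module LinearMap Cfsg.Lib.Root Cfsg.Lib.Transfer
open scoped commutatorElement

variable {k M : Type*} [Field k] [AddCommGroup M] [Module k M] [FiniteDimensional k M] {G U : Subgroup (End k M)ˣ}
  {x y u v w t g g' x' x'' y' : End k M}

theorem two_ne (h : ringChar k ≠ 2) : (2 : k) ≠ 0 := fun e => h (CharP.ringChar_of_prime_eq_zero Nat.prime_two e)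

theorem fixed_Eg (hx : Q G x) : fixedSubmodule (Eg G x) = ker x :=
  (iInf₂_le_of_le _ (ux_mem_Eg hx.mem_Es) (by simp)).antisymm (le_iInf₂ fun _ h => h.2.2.1)

theorem comm_Eg (hx : Q G x) : commutatorSubmodule (Eg G x) = range x :=
  (iSup₂_le fun _ h => h.2.1).antisymm (le_iSup₂_of_le _ (ux_mem_Eg hx.mem_Es) (by simp))

theorem un_of_cube {W : Submodule k (End k M)} {A B : Subgroup (End k M)ˣ} (h : W * W * W = ⊥) (hA : nl k A ≤ W) (hB : nl k B ≤ W) :
    Un k (A ⊔ B) := by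
  have h1 : (W ⊔ W * W) * (W ⊔ W * W) = W * W := by simp [Submodule.mul_sup, Submodule.sup_mul, ← mul_assoc, h]
  refine ⟨3, le_bot_iff.1 ((pow_le_pow_left' (nl_sup_le (h1.le.trans le_sup_right) (le_sup_of_le_left hA) (le_sup_of_le_left hB)) 3).trans ?_)⟩
  rw [pow_three', h1]; simp [Submodule.mul_sup, ← mul_assoc, h]

theorem not_un (hx : x ∈ nl k U) (hu : u ∈ nl k U) (e : x * u * x = x) (h : x ≠ 0) : ¬ Un k U := fun ⟨n, hn⟩ => by
  have := Submodule.pow_mem_pow _ (nl_mul (Submodule.mul_mem_mul hx hu)) (n + 1)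
  rw [IsIdempotentElem.pow_succ_eq n (show x * u * (x * u) = x * u by rw [← mul_assoc, e]), pow_succ, hn, Submodule.bot_mul,
    Submodule.mem_bot] at this
  exact h (by rw [← e, this, zero_mul])

theorem sq_s (h : x * x = 0) (t : End k M) : x * (x * t) = 0 := by rw [← mul_assoc, h, zero_mul]

theorem tri_s (h : x * y * u = v) : x * (y * u) = v ∧ ∀ t, x * (y * (u * t)) = v * t := ⟨mul_assoc x y u ▸ h, fun t => by
  rw [← h, mul_assoc, mul_assoc]⟩

theorem Qd.xux (hu : Qd G u) (hx : Q G x) (e : u * x * u = u) : Qd G (x * u * x) := by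
  convert (hu.conj (g' := (1 + (-1 : k) • x) * (1 + (1 : k) • u)) (mul_mem (hu.q.mem (-1)) (hx.mem 1)) ?_).neg using 1 <;>
    simp [mul_add, add_mul, mul_assoc, tri_s e, sq_s hu.q.sq, sq_s hx.sq, hu.q.sq, hx.sq]
  abel

theorem Qd.xux_eq (hx : Qd G x) (hu : Qd G u) (e : u * x * u = u) : x * u * x = x := by
  have h1 := hx.q.sub (hu.xux hx.q e).q (by simp [mul_assoc, sq_s hx.q.sq]) (by simp [mul_assoc, hx.q.sq])
  refine (sub_eq_zero.1 (by_contra fun h => hu.ne ?_)).symm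
  rw [← e, hx.cancel h1 h le_rfl (by rw [mul_assoc, ← mul_one_sub]; exact range_mul_le) (by simp [mul_sub, ← mul_assoc, e]), zero_mul]

theorem pt_of (hx : Qd G x) (hy : Qd G y) (hv : v ∈ Es G x) (hu : u ∈ Es G y) (e1 : v * u * v = v) (e2 : u * v * u = u) (h : v ≠ 0) :
    Pt (Eg G x) (Eg G y) (ux hv.1.sq) (ux hu.1.sq) := by
  have h1 : u ≠ 0 := fun e => h (by rw [← e1, e, mul_zero, zero_mul])
  have h2 := (hy.of_Es hu h1).1.conj (mem_gm.2 hv.1.ux_mem) (ux hv.1.sq).inv_mul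
  refine ⟨ux_mem_Eg hv, ux_mem_Eg hu, ?_⟩
  rw [← hx.Eg_eq hv h, ← hy.Eg_eq hu h1, cj_Eg hv.1.ux_mem, cj_Eg hu.1.ux_mem, ← h2.Eg_eq (neg_mem h2.q.mem_Es) h2.neg.ne]
  simp only [ux_val, ux_inv, mul_sub, add_mul, mul_one, one_mul, e1, e2]
  congr 1; abel

theorem finrank_conj (hg : g ∈ gm G) (e : g' * g = 1) : finrank k (Es G (g * x * g')) ≤ finrank k (Es G x) := by
  have h := inv_mem_gm hg e
  refine finrank_le_finrank_of_injective (f := (mulRight k g ∘ₗ mulLeft k g').restrict fun v hv => ?_) fun a b e' => Subtype.ext ?_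
  · simpa [← mul_assoc, e, mul_assoc x] using conj_mem_Es hv h.1 h.2
  · simpa [← mul_assoc, h.2, mul_assoc _ g] using congrArg (g * ·.1 * g') e'

/-- Irreducibility under the group together with its centraliser. -/
def IC (G : Subgroup (End k M)ˣ) : Prop := IsIrreducibleFor (G ⊔ Subgroup.centralizer (G : Set (End k M)ˣ))

theorem ic_of (h : IsQuadraticPair G) : IC G := ⟨h.1.1, fun W hW => h.1.2 W fun g hg => hW g (Subgroup.mem_sup_left hg)⟩

theorem IC.eq_bot (h : IC G) (hU : U ≤ G) (hn : ∀ g ∈ G, ∀ u ∈ U, g * u * g⁻¹ ∈ U) (hu : Un k U) : U = ⊥ := by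
  have h1 : ∀ m, m ∈ fixedSubmodule U ↔ ∀ u ∈ U, u.1 m = m := fun m => by simp [fixedSubmodule, sub_eq_zero]
  obtain e | e := h.2 (fixedSubmodule U) fun g hg m hm => (h1 _).2 fun u hu => by
    have := (h1 m).1 hm _ (sup_ind (P := fun g => ∀ u ∈ U, g * u * g⁻¹ ∈ U) (inv_mem hg) hn
      (fun c hc u hu => by rwa [← hc u (hU hu), mul_inv_cancel_right]) (fun a b ha hb u hu => by simpa [mul_assoc] using ha _ (hb u hu)) u hu)
    simpa [← End.mul_apply g.1 (g⁻¹).1] using congrArg g.1 this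
  · obtain ⟨n, hu⟩ := hu
    induction n with
    | zero =>
      obtain ⟨m, hm⟩ := h.1
      exact absurd (DFunLike.congr_fun ((Submodule.mem_bot k).1 (Submodule.one_le.1 ((pow_zero _).symm.trans hu).le)) m) hm
    | succ n ih =>
      refine ih ((Submodule.eq_bot_iff _).2 fun t ht => LinearMap.ext fun m => (Submodule.mem_bot k).1 (e ▸ (h1 _).2 fun u h => ?_))
      exact sub_eq_zero.1 (DFunLike.congr_fun ((Submodule.mem_bot k).1 (hu ▸ pow_succ' (nl k U) n ▸ Submodule.mul_mem_mul (mem_nl h) ht)) m)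
  · exact (Subgroup.eq_bot_iff_forall _).2 fun u hu => Units.ext (LinearMap.ext fun m => (h1 m).1 (e.ge trivial) u hu)

variable (h2 : (2 : k) ≠ 0)
include h2

theorem Qd.triple (hx : Qd G x) (hy : Qd G y) (h : x * y * x = 0) (h1 : x' ∈ Es G x) (h3 : y' ∈ Es G y) (h4 : x'' ∈ Es G x) :
    x' * y' * x'' = 0 :=
  have key : ∀ {x y a b : End k M}, x * y * x = 0 → a ∈ Es G x → b ∈ Es G x → a * y * b = 0 := fun h ha hb =>
    Es_l hb ((mul_assoc _ _ _).trans (Es_r ha ((mul_assoc _ _ _).symm.trans h)))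
  key (hx.mul_symm h2 h3.1 (key (hy.mul_symm h2 hx.q h) h3 h3)) h1 h4

theorem Qd.un (hx : Qd G x) (hy : Qd G y) (h : x * y * x = 0) : Un k (Eg G x ⊔ Eg G y) := by
  have h1 : ∀ x, Es G x * Es G x = ⊥ := fun x => le_bot_iff.1 (Submodule.mul_le.2 fun _ h _ h' => Es_mul h h')
  have h3 : ∀ {x y}, Qd G x → Qd G y → x * y * x = 0 → Es G x * (Es G y * Es G x) = ⊥ := fun hx hy h =>
    le_bot_iff.1 (Submodule.mul_le.2 fun a ha b hb => Submodule.mul_induction_on hb (fun b hb c hc => mul_assoc a b c ▸ hx.triple h2 hy h ha hb hc)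
      fun b c hb hc => by rw [mul_add]; exact add_mem hb hc)
  refine un_of_cube (W := Es G x ⊔ Es G y) ?_ (nl_Eg.le.trans le_sup_left) (nl_Eg.le.trans le_sup_right)
  simp [Submodule.mul_sup, Submodule.sup_mul, h1, mul_assoc, h3 hx hy h, h3 hy hx (hy.mul_symm h2 hx.q h)]

theorem IC.exists_opp (h : IC G) (hx : Qd G x) : ∃ y, Qd G y ∧ x * y * x ≠ 0 := by
  by_contra! hc
  have h1 : ∀ g ∈ G, ∀ B ∈ {B | ∃ g ∈ G, cj g (Eg G x) = B}, cj g B ∈ {B | ∃ g ∈ G, cj g (Eg G x) = B} := by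
    rintro g hg _ ⟨f, hf, rfl⟩; exact ⟨g * f, mul_mem hg hf, cj_mul _ _ _⟩
  have h3 : ∀ B ∈ {B | ∃ g ∈ G, cj g (Eg G x) = B}, B ≤ G := by rintro _ ⟨g, hg, rfl⟩; rw [cj_Eg hg]; exact Eg_le
  have := h.eq_bot (iSup₂_le h3) (fun g hg => cj_le_iff.1 (by
    simp only [cj, Subgroup.map_iSup]; exact iSup₂_le fun B hB => le_iSup₂_of_le _ (h1 g hg B hB) le_rfl)) (un_iSup h3 (fun B hB g hg => h1 g hg B hB) (by
      rintro _ ⟨g, hg, rfl⟩ _ ⟨f, hf, rfl⟩
      have h4 := hx.conj (mem_gm.2 hf) f.inv_mul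
      rw [cj_Eg hg, cj_Eg hf]
      refine (hx.conj (mem_gm.2 hg) g.inv_mul).un h2 h4 ?_
      simpa [mul_assoc] using congrArg (g.1 * · * (g⁻¹).1) (hc _ (h4.conj (mem_gm.2 (inv_mem hg)) g.mul_inv))))
  exact (ux_ne_one _).2 hx.ne (Subgroup.mem_bot.1 (this.le (le_iSup₂_of_le (f := fun B _ => B) (Eg G x) ⟨1, one_mem _, cj_one _⟩ le_rfl (ux_mem_Eg hx.q.mem_Es))))

/-- Non-commuting unipotent pairs. -/
structure NC (G : Subgroup (End k M)ˣ) (x y : End k M) : Prop where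
  l : Qd G x
  r : Qd G y
  z : x * y * x = 0
  ne : x * y - y * x ≠ 0

theorem NC.symm (h : NC G x y) : NC G y x := ⟨h.r, h.l, h.r.mul_symm h2 h.l.q h.z, fun e => h.ne (by rw [← neg_sub, e, neg_zero])⟩

theorem NC.qd (h : NC G x y) : Qd G (x * y - y * x) :=
  h.l.of_rk (h.l.q.comm h.r.q h.z (h.symm h2).z) h.ne (by simpa [sub_eq_add_neg] using rk_frob (p := -y) (by simp [(h.symm h2).z]))

theorem NC.ex (h : NC G x y) : range x ⊓ ker y ≤ range (x * y) ∧ range (x * y) ≤ range (x * y - y * x) ∧ range (x * y) ⊓ range (y * x) = ⊥ := by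
  have h1 := h.l.min _ (h.qd h2).q h.ne
  have h3 : range (x * y - y * x) ≤ range (x * y) ⊔ range (y * x) := by simpa [sub_eq_add_neg] using range_add_le (x := x * y) (y := -(y * x))
  have h4 := Submodule.finrank_mono h3
  have h5 := Submodule.finrank_sup_add_finrank_inf_eq (range (x * y)) (range (y * x))
  have h6 := Submodule.finrank_mono (range_mul_le_inf (h.symm h2).z)
  have h7 := rk_add_ker y x
  unfold rk at *
  exact ⟨(Submodule.eq_of_le_of_finrank_le (range_mul_le_inf (h.symm h2).z) (by omega)).ge,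
    le_sup_left.trans (Submodule.eq_of_le_of_finrank_le h3 (by omega)).ge, Submodule.finrank_eq_zero.1 (by omega)⟩

theorem NC.range_le (h : NC G x y) (h1 : x' ∈ Es G x) (h3 : y' ∈ Es G y) : range (x' * y') ≤ range (x * y - y * x) :=
  (le_inf (range_mul_le.trans h1.2.1) (mul_eq_zero_iff.1 (mul_assoc y x' y' ▸ h.r.triple h2 h.l (h.symm h2).z h.r.q.mem_Es h1 h3))).trans
    ((h.ex h2).1.trans (h.ex h2).2.1)

theorem NC.ker_le (h : NC G x y) (h1 : x' ∈ Es G x) (h3 : y' ∈ Es G y) : ker (x * y - y * x) ≤ ker (x' * y') := fun m hm => by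
  have h4 : x (y m) = 0 := (Submodule.mem_bot k).1 ((h.ex h2).2.2 ▸ ⟨⟨m, rfl⟩, m, (sub_eq_zero.1 hm).symm⟩)
  obtain ⟨n, hn⟩ := ((h.symm h2).ex h2).1 ⟨⟨m, rfl⟩, h4⟩
  have h5 := h3.2.2.1 (show m - x n ∈ ker y by simpa [sub_eq_zero] using hn.symm)
  rw [mem_ker, map_sub, sub_eq_zero] at h5
  simpa [h5] using DFunLike.congr_fun (h.l.triple h2 h.r h.z h1 h3 h.l.q.mem_Es) n

theorem NC.mem (h : NC G x y) (h1 : x' ∈ Es G x) (h3 : y' ∈ Es G y) : x' * y' - y' * x' ∈ Es G (x * y - y * x) := by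
  have e1 := neg_sub (x * y) (y * x) ▸ (h.symm h2).range_le h2 h3 h1
  have e2 := neg_sub (x * y) (y * x) ▸ (h.symm h2).ker_le h2 h3 h1
  rw [range_neg] at e1
  rw [ker_neg] at e2
  refine mem_Es (h.qd h2).q.sq (h1.1.comm h3.1 (h.l.triple h2 h.r h.z h1 h3 h1) (h.r.triple h2 h.l (h.symm h2).z h3 h1 h3)) ?_ fun m hm => ?_
  · rw [sub_eq_add_neg (x' * y')]
    exact range_add_le.trans (sup_le (h.range_le h2 h1 h3) ((range_neg _).le.trans e1))
  · rw [mem_ker, LinearMap.sub_apply, h.ker_le h2 h1 h3 hm, e2 hm, sub_zero]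

/-- The algebra of `U(E(w))`. -/
def uw (w : End k M) : Submodule k (End k M) where
  carrier := {t | w * t = 0 ∧ t * w = 0 ∧ ∀ m ∈ ker w, t m ∈ range w}
  zero_mem' := ⟨by simp, by simp, fun _ _ => zero_mem _⟩
  add_mem' h h' := ⟨by simp [mul_add, h.1, h'.1], by simp [add_mul, h.2.1, h'.2.1], fun m hm => add_mem (h.2.2 m hm) (h'.2.2 m hm)⟩
  smul_mem' c _ h := ⟨by simp [h.1], by simp [h.2.1], fun m hm => Submodule.smul_mem _ c (h.2.2 m hm)⟩

omit h2 in
theorem uw_mul : uw w * uw w ≤ uw w := Submodule.mul_le.2 fun a ha b hb =>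
  ⟨by rw [← mul_assoc, ha.1, zero_mul], by rw [mul_assoc, hb.2.1, mul_zero], fun m hm =>
    let ⟨n, hn⟩ := hb.2.2 m hm
    ⟨0, by simpa [← hn] using (DFunLike.congr_fun ha.2.1 n).symm⟩⟩

theorem NC.le_uw (h : NC G x y) : Es G x ≤ uw (x * y - y * x) := fun v hv => by
  refine ⟨?_, ?_, fun m hm => (h.ex h2).2.1 ((h.ex h2).1 ⟨hv.2.1 ⟨m, rfl⟩, ?_⟩)⟩
  · rw [sub_mul, h.l.triple h2 h.r h.z h.l.q.mem_Es h.r.q.mem_Es hv, mul_assoc, hv.2.2.2, mul_zero, sub_zero]
  · rw [mul_sub, ← mul_assoc, ← mul_assoc, h.l.triple h2 h.r h.z hv h.r.q.mem_Es h.l.q.mem_Es, Es_mul hv h.l.q.mem_Es, zero_mul, sub_zero]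
  · exact (h.symm h2).ker_le h2 h.r.q.mem_Es hv (by rwa [← neg_sub, ker_neg])

theorem NC.le_uw' (h : NC G x y) : Es G y ≤ uw (x * y - y * x) := fun v hv => by
  have := (h.symm h2).le_uw h2 hv
  rw [← neg_sub] at this
  exact ⟨by simpa only [neg_mul, neg_eq_zero] using this.1, by simpa only [mul_neg, neg_eq_zero] using this.2.1,
    by simpa only [ker_neg, range_neg] using this.2.2⟩

variable (h3 : Nat.card k ≠ 3)
include h3

theorem three_lt : 3 < ENat.card k := by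
  obtain ⟨c, h0, h1⟩ := exists_sq_ne h2 h3
  rw [Ne, sq_eq_one_iff, not_or] at h1
  exact lt_of_lt_of_le (by decide) ((Set.encard_eq_four.2 ⟨0, 1, -1, c, zero_ne_one, by simp, h0.symm, fun e => h2 (by linear_combination e),
    Ne.symm h1.1, Ne.symm h1.2, rfl⟩).ge.trans Set.encard_le_card)

theorem Qd.card (hx : Qd G x) : 3 < ENat.card (Eg G x) :=
  (three_lt h2 h3).trans_le (ENat.card_le_card_of_injective (f := fun c => ⟨_, ux_mem_Eg ((Es G x).smul_mem c hx.q.mem_Es)⟩) fun _ _ e =>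
    smul_left_injective k hx.ne (add_left_cancel (congrArg (·.1.1) e)))

theorem Qd.partner (hx : Qd G x) (hy : Qd G y) (h : x * y * x ≠ 0) (hv : v ∈ Es G x) (h0 : v ≠ 0) :
    ∃ u ∈ Es G y, v * u * v = v ∧ u * v * u = u := by
  obtain ⟨u, hu, h4, e⟩ := hy.exists_partner h2 h3 hv.1 fun e => h (hx.mul_symm h2 hy.q
    (hy.triple h2 (hx.of_Es hv h0).1 e hy.q.mem_Es (hx.symm hv h0) hy.q.mem_Es))
  exact ⟨u, hu, (hx.of_Es hv h0).1.xux_eq (hy.of_Es hu h4).1 e, e⟩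

theorem Qd.sp (hx : Qd G x) (hy : Qd G y) (h : x * y * x ≠ 0) : Sp (Eg G x) (Eg G y) := by
  have key : ∀ {x y}, Qd G x → Qd G y → x * y * x ≠ 0 → ∀ a ∈ Eg G x, a ≠ 1 →
      ∃ b, Pt (Eg G x) (Eg G y) a b ∧ a⁻¹ * b * a⁻¹ = b * a⁻¹ * b := fun hx hy h => forall_Eg.2 fun v hv h0 => by
    obtain ⟨u, hu, e1, e2⟩ := hx.partner h2 h3 hy h hv ((ux_ne_one _).1 h0)
    refine ⟨_, pt_of hx hy hv hu e1 e2 ((ux_ne_one _).1 h0), Units.ext ?_⟩
    simp only [Units.val_mul, ux_val, ux_inv, mul_sub, sub_mul, mul_add, add_mul, mul_one, one_mul, e1, e2, hv.1.sq, hu.1.sq]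
    abel
  have h1 : RK (Eg G x) (Eg G y) := rk_of (fun e => h (by
      rw [show x * y = 0 by simpa using (mem_Eg.1 (e.ge (ux_mem_Eg hy.q.mem_Es))).2.2.2, zero_mul]))
    (nil_of_comm _) (nil_of_comm _) (fun a ha h0 => (key hx hy h a ha h0).imp fun _ h => h.1)
    fun a ha h0 => (key hy hx (mt (hx.mul_symm h2 hy.q) h) a ha h0).imp fun _ h => h.1.symm
  exact ⟨h1, fun p => let ⟨_, q, e⟩ := key hx hy h _ p.l (p.ne_one h1.ne); h1.pt_right q p ▸ e⟩

theorem Qd.commute (hx : Qd G x) (hy : Qd G y) (hv : v ∈ Es G x) (h0 : v ≠ 0) (h : cj (ux hv.1.sq) (Eg G y) = Eg G y)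
    (h1 : x' ∈ Es G x) (h4 : y' ∈ Es G y) : x' * y' = y' * x' := by
  have h5 : x * y * x = 0 := by_contra fun e => (ux_ne_one _).2 h0 ((hx.sp h2 h3 hy e).rk.eq_one_of_cj (ux_mem_Eg hv) h)
  have key : ∀ {x y v u}, Qd G x → Qd G y → x * y * x = 0 → ∀ hv : v ∈ Es G x, cj (ux hv.1.sq) (Eg G y) = Eg G y → u ∈ Es G y →
      v * u = u * v := fun {x y v u} hx hy h5 hv h hu => sub_eq_zero.1 (by_contra fun e => by
    have h6 := hx.triple h2 hy h5 hv hu hv
    have h7 : v * u - u * v ∈ Es G y := by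
      convert sub_mem (mem_Eg.1 (h.le (conj_mem_cj.2 (ux_mem_Eg hu)))) hu using 1
      simp only [Units.val_mul, ux_val, ux_inv, mul_sub, mul_add, add_mul, mul_one, one_mul, h6, hv.1.sq]; abel
    have h8 := Es_le (hy.symm h7 e) hu
    exact e (by rw [Es_l h8 (by rw [mul_sub, sq_s hv.1.sq, ← mul_assoc, h6, sub_zero]),
      Es_r h8 (by rw [sub_mul, h6, mul_assoc, hv.1.sq, mul_zero, sub_zero]), sub_zero]))
  refine (key hy hx (hy.mul_symm h2 hx.q h5) h4 ?_ h1).symm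
  rw [← hx.Eg_eq hv h0, cj_Eg h4.1.ux_mem, ux_val, ux_inv, add_mul, ← key hx hy h5 hv h h4, one_mul, ← mul_one_add, mul_assoc]
  exact congrArg _ ((congrArg _ (ux h4.1.sq).mul_inv).trans (mul_one v))

theorem NC.of_mem (h : NC G x y) (h1 : x' ∈ Es G x) (h4 : y' ∈ Es G y) (h5 : x' ≠ 0) (h6 : y' ≠ 0) : NC G x' y' :=
  ⟨(h.l.of_Es h1 h5).1, (h.r.of_Es h4 h6).1, h.l.triple h2 h.r h.z h1 h4 h1, fun e => h.ne (sub_eq_zero.2 (h.l.commute h2 h3 h.r h1 h5 (by
    rw [← h.r.Eg_eq h4 h6, cj_Eg h1.1.ux_mem, ux_val, ux_inv, add_mul, sub_eq_zero.1 e, one_mul, ← mul_one_add, mul_assoc]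
    exact congrArg _ ((congrArg _ (ux h1.1.sq).mul_inv).trans (mul_one y'))) h.l.q.mem_Es h.r.q.mem_Es))⟩

theorem NC.finrank (h : NC G x y) : finrank k (Es G x) ≤ finrank k (Es G (x * y - y * x)) ∧
    (finrank k (Es G (x * y - y * x)) ≤ finrank k (Es G x) → ∀ w ∈ Es G (x * y - y * x), ∃ v ∈ Es G x, v * y - y * v = w) := by
  let f := (mulRight k y - mulLeft k y).restrict fun v (hv : v ∈ Es G x) => h.mem h2 hv h.r.q.mem_Es
  have hf : Function.Injective f := (injective_iff_map_eq_zero _).2 fun v e => Subtype.ext (by_contra fun e' =>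
    (h.of_mem h2 h3 v.2 h.r.q.mem_Es e' h.r.ne).ne (congrArg Subtype.val e))
  refine ⟨finrank_le_finrank_of_injective hf, fun e w hw => ?_⟩
  obtain ⟨v, hv⟩ := (injective_iff_surjective_of_finrank_eq_finrank ((finrank_le_finrank_of_injective hf).antisymm e)).1 hf ⟨w, hw⟩
  exact ⟨v, v.2, congrArg Subtype.val hv⟩

theorem Qd.grade (hw : Qd G w) (hu : Qd G u) (e1 : w * u * w = w) (hy : Qd G y) (h : y ∈ uw w) :
    ∃ t ∈ Es G w, y - t ≠ 0 → Qd G (y - t) ∧ finrank k (Es G w) ≤ finrank k (Es G (y - t)) := by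
  have e2 := hu.xux_eq hw e1
  have h4 : (1 - w * u) * y * (1 - u * w) = 0 := LinearMap.ext fun m => by
    obtain ⟨n, hn⟩ := h.2.2 ((1 - u * w) m) (by simpa [sub_eq_zero] using (DFunLike.congr_fun e1 m).symm)
    rw [End.mul_apply, End.mul_apply, ← hn]
    simpa [sub_eq_zero] using (DFunLike.congr_fun e1 n).symm
  have h5 : w * u * y * (u * w) = w * u * y + y * (u * w) - y := by linear_combination (norm := noncomm_ring) h4
  have s := And.intro (tri_s e1) (And.intro (tri_s e2) (And.intro (tri_s ((mul_assoc w 1 y).trans (by rw [one_mul, h.1]))) (And.intro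
    (tri_s ((mul_assoc y 1 w).trans (by rw [one_mul, h.2.1]))) (And.intro (sq_s hw.q.sq) (And.intro (sq_s hu.q.sq) (sq_s hy.q.sq))))))
  simp only [one_mul, zero_mul] at s
  have n1 : 1 - (w * u + u * w) - w + u ∈ gm G := by
    convert mul_mem (mul_mem (hw.q.mem (-1)) (hu.q.mem 1)) (hw.q.mem (-1)) using 1
    simp [mul_add, add_mul, mul_assoc, s, hw.q.sq]; abel
  have n2 : 1 - (2 : k) • (w * u + u * w) ∈ gm G := by
    convert mul_mem n1 n1 using 1
    simp only [mul_add, add_mul, mul_sub, sub_mul, mul_assoc, s, hw.q.sq, hu.q.sq, mul_one, one_mul, mul_zero]; module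
  have h6 : Q G (w * u * y * (u * w)) := by
    have := hy.q.conj n2 (g' := 1 - (2 : k) • (w * u + u * w)) (by
      simp only [mul_add, add_mul, mul_sub, sub_mul, mul_assoc, s, mul_one, one_mul, mul_zero, smul_mul_assoc, mul_smul_comm]; module)
    rw [show _ * _ * _ = (2 : k) • (w * u * y * (u * w)) - y by
      simp only [mul_add, add_mul, mul_sub, sub_mul, mul_assoc, s, mul_one, one_mul, mul_zero, zero_mul, smul_mul_assoc, mul_smul_comm] at h5 ⊢
      linear_combination (norm := module) (2 : k) • h5] at this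
    simpa [h2] using (hy.q.add this (by simp [mul_sub, mul_assoc, s, hy.q.sq]) (by simp [sub_mul, mul_assoc, s, hy.q.sq])).smul 2⁻¹
  refine ⟨_, mem_Es hw.q.sq h6 (by simpa only [mul_assoc] using range_mul_le) (by simpa only [mul_assoc] using ker_le_mul (p := w * u * y * u)),
    fun h7 => ?_⟩
  have h8 := hy.of_rk (hy.q.sub h6 (by simp [mul_assoc, s]) (by simp [mul_assoc, s])) h7 (le_of_eq_of_le (congrArg _ (by
    rw [h5]; noncomm_ring)) (rk_frob h4))
  have h9 := h8.conj n1 (g' := 1 - (w * u + u * w) + w - u) (by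
    simp only [mul_add, add_mul, mul_sub, sub_mul, mul_assoc, s, hw.q.sq, hu.q.sq, mul_one, one_mul, mul_zero]; abel)
  have h10 : w * ((1 - (w * u + u * w) - w + u) * (y - w * u * y * (u * w)) * (1 - (w * u + u * w) + w - u)) -
      (1 - (w * u + u * w) - w + u) * (y - w * u * y * (u * w)) * (1 - (w * u + u * w) + w - u) * w = y - w * u * y * (u * w) := by
    simp only [mul_add, add_mul, mul_sub, sub_mul, mul_assoc, s, hw.q.sq, hu.q.sq, mul_one, one_mul, mul_zero] at h5 ⊢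
    linear_combination (norm := abel1) -h5
  refine ⟨h8, h10 ▸ (NC.finrank h2 h3 ⟨hw, h9, ?_, h10.trans_ne h7⟩).1⟩
  simp only [mul_add, add_mul, mul_sub, sub_mul, mul_assoc, s, hw.q.sq, hu.q.sq, mul_one, one_mul, mul_zero]; abel

theorem NC.surj (h : NC G x y) (hG : IC G) : ∀ w ∈ Es G (x * y - y * x), ∃ v ∈ Es G x, v * y - y * v = w := by
  obtain ⟨u, hu, e⟩ := hG.exists_opp h2 (h.qd h2)
  obtain ⟨u, hu', e, -⟩ := (h.qd h2).partner h2 h3 hu e (h.qd h2).q.mem_Es h.ne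
  replace hu := (hu.of_Es hu' fun e' => h.ne (by rw [← e, e', mul_zero, zero_mul])).1
  have hx := h.le_uw h2 h.l.q.mem_Es
  have hy := h.le_uw' h2 h.r.q.mem_Es
  obtain ⟨s, hs, h4⟩ := (h.qd h2).grade h2 h3 hu e h.l hx
  obtain ⟨t, ht, h5⟩ := (h.qd h2).grade h2 h3 hu e h.r hy
  have h6 : (y - t) * x - x * (y - t) = -(x * y - y * x) := by rw [sub_mul, mul_sub, Es_l ht hx.2.1, Es_r ht hx.1]; abel
  replace h4 := h4 fun e => h.ne (by rw [sub_eq_zero.1 e, Es_l hs hy.2.1, Es_r hs hy.1, sub_zero])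
  replace h5 := h5 fun e => h.ne (neg_eq_zero.1 (by rw [← h6, e, zero_mul, mul_zero, sub_zero]))
  have h7 : NC G (y - t) x := ⟨h5.1, h.l, h5.1.mul_symm h2 h.l.q (by rw [mul_sub, Es_l ht hx.2.1, sub_zero, h.z]), h6 ▸ neg_ne_zero.2 h.ne⟩
  have h8 := (h.qd h2).Es_eq (neg_mem (h.qd h2).q.mem_Es) (neg_ne_zero.2 h.ne)
  obtain ⟨v, hv, e⟩ := (h7.finrank h2 h3).2 (by rw [h6, h8]; exact h5.2) s (by rwa [h6, h8])
  refine (h.finrank h2 h3).2 (h4.2.trans (le_of_eq_of_le ?_ (finrank_conj (hv.1.mem (-1)) (g' := 1 + v) (by simp [mul_add, add_mul, hv.1.sq]))))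
  rw [← e, show _ * x * _ = x - (v * x - x * v) - v * x * v by simp [mul_add, add_mul]; abel,
    h7.l.triple h2 h7.r h7.z hv h.l.q.mem_Es hv, sub_zero]

end Cfsg.Lib.Quad
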