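import Cfsg.Agent.Lib.Quad.Sigma
import Cfsg.Agent.Lib.Root.Parts

/-!
# The components of a quadratic pair
-/

set_option autoImplicit false
set_option linter.unusedSectionVars false

namespace Cfsg.Lib.Quad

open Module LinearMap Cfsg.Lib.Root Cfsg.Lib.Transfer Subgroup
open scoped commutatorElement

universe u

variable {k M : Type u} [Field k] [AddCommGroup M] [Module k M] [FiniteDimensional k M] {G H A B : Subgroup (End k M)ˣ}
  {x y u v w : End k M}

theorem IC.of_le (h : IC G) (h1 : H ≤ G) (h2 : G ≤ H ⊔ centralizer H) : IC H :=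
  ⟨h.1, fun W hW => h.2 W fun g hg => hW g (sup_le h2 (le_sup_of_le_right (centralizer_le h1)) hg)⟩

theorem IC.eq_zero (h : IC H) (hx : Q H x) (h0 : x ≠ 0) (hy : ∀ g ∈ H, y * g.1 = g.1 * y) (e : y * x = 0) : y = 0 := by
  let W : Submodule k M := ⨅ (y : End k M) (_ : ∀ g ∈ H, y * g.1 = g.1 * y) (_ : y * x = 0), ker y
  have h1 : ∀ m, m ∈ W ↔ ∀ y : End k M, (∀ g ∈ H, y * g.1 = g.1 * y) → y * x = 0 → y m = 0 := fun m => by simp [W]
  obtain e' | e' := h.2 W fun g hg => sup_ind (P := fun g => ∀ w ∈ W, g.1 w ∈ W) hg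
    (fun g hg m hm => (h1 _).2 fun y hy e => by rw [← End.mul_apply, hy g hg, End.mul_apply, (h1 m).1 hm y hy e, map_zero])
    (fun c hc m hm => (h1 _).2 fun y hy e => (h1 m).1 hm (y * c.1)
      (fun g hg => by rw [mul_assoc, ← Units.val_mul, ← hc g hg, Units.val_mul, ← mul_assoc, hy g hg, mul_assoc]) (by
        have := congrArg Units.val (hc _ hx.ux_mem)
        simp only [Units.val_mul, ux_val, add_mul, mul_add, one_mul, mul_one, add_right_inj] at this
        rw [mul_assoc, ← this, ← mul_assoc, e, zero_mul]))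
    fun a b ha hb m hm => ha _ (hb m hm)
  · exact absurd (LinearMap.ext fun m => (Submodule.mem_bot k).1 (e' ▸ (h1 _).2 fun y _ e => DFunLike.congr_fun e m)) h0
  · exact LinearMap.ext fun m => (h1 m).1 (e'.ge trivial) y hy e

theorem un_map {X : Type*} [Group X] (f : X →* (End k M)ˣ) {W : Set (Subgroup X)} {N : Subgroup X} (hWG : ∀ B ∈ W, B ≤ N)
    (hW : ∀ B ∈ W, ∀ g ∈ N, cj g B = B) (h : ∀ B ∈ W, ∀ C ∈ W, Un k (B.map f ⊔ C.map f)) : Un k ((gn W).map f) := by
  have := un_iSup (k := k) (G := N.map f) (W := Subgroup.map f '' W) (Set.forall_mem_image.2 fun B hB => map_mono (hWG B hB))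
    (by rintro _ ⟨B, hB, rfl⟩ _ ⟨g, hg, rfl⟩; exact ⟨B, hB, by rw [← map_cj, hW B hB g hg]⟩)
    (Set.forall_mem_image.2 fun B hB => Set.forall_mem_image.2 (h B hB))
  simpa only [iSup_image, Subgroup.map_iSup] using this

theorem qs_of_pr {S : Set (Subgroup (End k M)ˣ)} (h : PR S) (hG : IC (gn S)) (hA : A ∈ S) (h1 : ∀ C ∈ so S, ∀ D ∈ so S, Cn (so S) C D)
    (h2 : ∀ C ∈ S, ∀ D ∈ S, RK C D → C ⊔ D ≤ ⁅C ⊔ D, C ⊔ D⁆) (h3 : ∀ C ∈ S, ∀ D ∈ S, ⁅C, D⁆ = ⊥ → Un k (C ⊔ D)) :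
    IsQuasisimple (gn S) := by
  have hf := subtype_injective (gn S)
  have hS := h.rs
  refine qs_of_rs hS ⟨A, hA, rfl⟩ h.ni_so h1 (fun C hC D hD e => (map_le_map_iff_of_injective hf).1 ?_) fun N hN h4 => ?_
  · rw [map_commutator, Subgroup.map_sup]
    exact h2 _ (mem_so.1 hC) _ (mem_so.1 hD) (e.map _ fun e' => e.ne (Subgroup.map_injective hf e'))
  let V := fun A => gn {C ∈ so S | centralizingMembers (so S) C = centralizingMembers (so S) A}
  have v1 : ∀ g A C, centralizingMembers (so S) C = centralizingMembers (so S) A →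
      centralizingMembers (so S) (cj g C) ⊆ centralizingMembers (so S) (cj g A) := fun g A C e E hE => mem_cent.2 ⟨hE.1, by
    rw [← cj_cj_inv g E, ← cj_commutator, cj_eq_bot]
    refine (mem_cent.1 (e.le (mem_cent.2 ⟨hS.cj_mem hE.1 _, ?_⟩))).2
    rw [← cj_eq_bot (g := g), cj_commutator, cj_cj_inv, (mem_cent.1 hE).2]⟩
  have v2 : ∀ g A, cj g (N ⊓ V A) ≤ N ⊓ V (cj g A) := fun g A => by
    rw [cj_inf, cj_eq_of_normal]
    simp only [V, cj, Subgroup.map_iSup]
    exact inf_le_inf_left _ (iSup₂_le fun C hC => le_gn ⟨hS.cj_mem hC.1 g, (v1 g A C hC.2).antisymm (v1 g C A hC.2.symm)⟩)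
  have v3 : ∀ A ∈ so S, ∀ n ∈ N, cj n (N ⊓ V A) = N ⊓ V A := fun A hA n hn =>
    have : ∀ n ∈ N, cj n (N ⊓ V A) ≤ N ⊓ V A := fun n hn => (v2 n A).trans (by simp only [V, ← h4 n hn A hA, le_refl])
    (this n hn).antisymm ((cj_cj_inv n _).ge.trans (cj_mono n (this _ (inv_mem hn))))
  have v4 : ∀ A, Un k ((N ⊓ V A).map (gn S).subtype) := fun A => by
    have key : ∀ B ∈ {C ∈ so S | centralizingMembers (so S) C = centralizingMembers (so S) A},
        ∀ C ∈ {C ∈ so S | centralizingMembers (so S) C = centralizingMembers (so S) A}, ⁅B, C⁆ = ⊥ := fun B hB C hC =>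
      (mem_cent.1 ((hB.2.trans hC.2.symm).le (mem_cent.2 ⟨hB.1, commutator_self_eq_bot_iff.2 (hS.commutative B hB.1)⟩))).2
    exact (un_map _ (N := V A) (fun _ => le_gn) (fun B hB g hg => cj_eq_of_commute fun b hb =>
      (iSup₂_le fun C hC => commutator_eq_bot_iff_le_centralizer.1 (key C hC B hB) : V A ≤ _) hg b hb |>.symm) fun B hB C hC =>
        h3 _ (mem_so.1 hB.1) _ (mem_so.1 hC.1) (by rw [← map_commutator, key B hB C hC, Subgroup.map_bot])).mono (map_mono inf_le_right)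
  have v5 := hG.eq_bot (U := (gn ((fun A => N ⊓ V A) '' so S)).map (gn S).subtype) (map_subtype_le _) (fun g hg => cj_le_iff.1 (by
    rw [show g = (gn S).subtype ⟨g, hg⟩ from rfl, ← map_cj]
    exact map_mono (map_le_iff_le_comap.2 (iSup₂_le (Set.forall_mem_image.2 fun A hA => map_le_iff_le_comap.1 ((v2 _ A).trans
      (le_gn (Set.mem_image_of_mem (fun A => N ⊓ V A) (hS.cj_mem hA _)))))))))
    (un_map _ (N := N) (Set.forall_mem_image.2 fun _ _ => inf_le_left) (Set.forall_mem_image.2 v3)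
      (Set.forall_mem_image.2 fun A hA => Set.forall_mem_image.2 fun B _ => (v4 A).sup (v4 B) (by
        rintro _ ⟨n, hn, rfl⟩ _ ⟨d, hd, rfl⟩
        exact ⟨_, (v3 A hA n hn.1).le (conj_mem_cj.2 hd), rfl⟩)))
  rw [map_eq_bot_iff_of_injective _ hf] at v5
  refine fun n hn => mem_center_iff.2 fun x => hS.ind x (fun A hA a ha => (comm_eq_one.1 (mem_bot.1 (v5.le (le_gn (Set.mem_image_of_mem _ hA)
    (mem_inf.2 ⟨commutator_le_left N ⊤ (commutator_mem_commutator hn trivial), mul_mem (le_gn (Set.mem_sep (hS.cj_mem hA n) (h4 n hn A hA).symm)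
      (conj_mem_cj.2 ha)) (le_gn (by exact ⟨hA, rfl⟩) (inv_mem ha))⟩))))).symm) (by simp) fun x y hx hy => by rw [mul_assoc, hy, ← mul_assoc, hx, mul_assoc]

theorem mem_cent_roots (hx : x * x = 0) (h : ∀ u, Qd G u → x * u = u * x) : ux hx ∈ centralizer (gn (quadraticRootSubgroups G)) :=
  le_centralizer_iff.1 (iSup₂_le fun A hA => by
    obtain ⟨y, hy, rfl⟩ := mem_roots.1 hA
    refine forall_Eg.2 fun v hv _ hg => ?_
    obtain ⟨n, rfl⟩ := hg
    refine (Commute.zpow_left (Units.ext ?_) n).eq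
    by_cases e : v = 0
    · simp [e]
    · simp [mul_add, add_mul, h v (hy.of_Es hv e).1]; abel) (mem_zpowers _)

theorem gn_roots_le : gn (quadraticRootSubgroups G) ≤ G := iSup₂_le fun _ hA => let ⟨_, _, e⟩ := mem_roots.1 hA; e ▸ Eg_le

variable (h2 : (2 : k) ≠ 0) (h3 : Nat.card k ≠ 3)
include h2 h3

theorem IC.pr (hG : IC G) : PR (quadraticRootSubgroups G) := by
  refine ⟨fun A hA => ?_, fun A hA B hB b hb => ?_, fun A hA B hB => (hG.tri h2 h3 hA hB).imp_right (Or.imp_left Sp.rk), fun A hA => ?_⟩ <;>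
    obtain ⟨x, hx, rfl⟩ := mem_roots.1 hA
  · infer_instance
  · have := gn_roots_le (le_gn hB hb)
    exact mem_roots.2 ⟨_, hx.conj (mem_gm.2 this) b.inv_mul, (cj_Eg this).symm⟩
  · obtain ⟨y, hy, h⟩ := hG.exists_opp h2 hx
    exact ⟨_, mem_roots.2 ⟨y, hy, rfl⟩, (hx.sp h2 h3 hy h).rk⟩

theorem IC.psl2 (hG : IC G) (hA : A ∈ quadraticRootSubgroups G) (hB : B ∈ quadraticRootSubgroups G) (h : RK A B) :
    ∃ A₀ B₀, A₀ ≤ A ∧ B₀ ≤ B ∧ ∃ (k₁ : Type u) (_ : Field k₁), 3 < ENat.card k₁ ∧ IsPSL2PairOver k₁ A₀ B₀ := by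
  obtain ⟨x, hx, rfl⟩ := mem_roots.1 hA
  obtain ⟨y, hy, rfl⟩ := mem_roots.1 hB
  exact hx.psl2 h2 h3 hy (hx.opp_of_rk h2 h3 hy hG h)

theorem IC.split (hG : IC G) (hx : Q G x) : (∀ u, Qd G u → x * u = u * x) ∨
    ∃ y, Qd G y ∧ Q G (x - y) ∧ (x - y) * y = 0 ∧ rk (x - y) < rk x := by
  by_cases! h : ∃ u, Qd G u ∧ u * x * u ≠ 0
  · obtain ⟨y, hy, h⟩ := h
    obtain ⟨u, hu, h0, e⟩ := hy.exists_partner h2 h3 hx h
    have h4 := (hy.of_Es hu h0).1.xux hx e
    have h5 : range (x - x * u * x) ≤ range x := by rw [mul_assoc, ← mul_one_sub]; exact range_mul_le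
    refine Or.inr ⟨_, h4, hx.sub h4.q (by simp [mul_assoc, sq_s hx.sq]) (by simp [mul_assoc, hx.sq]), by simp [sub_mul, mul_assoc, sq_s hx.sq],
      not_le.1 fun h6 => h0 ?_⟩
    rw [← e, le_l (range_eq_of_rk h5 h6).ge (by simp [mul_sub, ← mul_assoc, e]), zero_mul]
  refine Or.inl fun u hu => ?_
  have i1 : ∀ t y, Q G y → (∀ u, Qd G u → u * t * u = 0) → ∀ u, Qd G u →
      u * (y * t - t * y) * u = 0 := fun t y hy ht u hu => by
    have key : ∀ c : k, u * ((1 + c • y) * t * (1 + (-c) • y)) * u = 0 := fun c => by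
      have e : ∀ c : k, (1 + c • y) * (1 + (-c) • y) = 1 := fun c => by simp [mul_add, add_mul, hy.sq]
      have := congrArg ((1 + c • y) * · * (1 + (-c) • y)) (ht _ (hu.conj (hy.mem (-c)) (e c)))
      have e' := neg_neg c ▸ e (-c)
      simp only [mul_assoc, e, mul_one, mul_zero, zero_mul] at this
      simpa only [← mul_assoc, e, one_mul] using this
    refine (smul_eq_zero_iff_right h2).1 ?_
    have := congrArg₂ (· - ·) (key 1) (key (-1))
    simp only [mul_add, add_mul, mul_sub, sub_mul, smul_mul_assoc, mul_smul_comm, mul_one, one_mul, mul_assoc] at this ⊢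
    linear_combination (norm := module) this
  have i2 : ∀ t, Q G t → rk t ≤ rk u → (∀ u, Qd G u → u * t * u = 0) → t = 0 := fun t ht h4 h5 => by_contra fun e =>
    let ⟨v, hv, e'⟩ := hG.exists_opp h2 (hu.of_rk ht e h4)
    e' ((hu.of_rk ht e h4).mul_symm h2 hv.q (h5 v hv))
  have h4 := i1 x u hu.q h
  have h5 : x * u * x = 0 := by
    have h5 := (hx.comm (hx.conj (hu.q.mem 1) (g' := 1 - u) (by simp [mul_add, sub_mul, hu.q.sq])) ?_ ?_).smul 2⁻¹
    · refine i2 _ (by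
        convert h5 using 1
        simp only [eq_inv_smul_iff₀ h2, mul_add, add_mul, mul_sub, sub_mul, mul_assoc, one_smul, mul_one, one_mul, hx.sq, sq_s hx.sq, tri_s (h u hu),
          mul_zero, zero_mul]
        module) rk_mul_le fun v hv => (smul_eq_zero_iff_right h2).1 ?_
      have := i1 _ x hx h4 v hv
      simp only [mul_sub, sub_mul, mul_assoc, hx.sq, sq_s hx.sq, mul_zero, zero_mul] at this ⊢
      linear_combination (norm := module) this
    all_goals simp [mul_add, add_mul, mul_sub, sub_mul, mul_assoc, hx.sq, sq_s hx.sq, tri_s (h u hu)]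
  exact (sub_eq_zero.1 (i2 _ (hu.q.comm hx (h u hu) h5) (by simpa [sub_eq_add_neg] using rk_frob (p := -x) (by simp [h5])) h4)).symm

theorem IC.mem_sup (hG : IC G) (hx : Q G x) :
    ux hx.sq ∈ gn (quadraticRootSubgroups G) ⊔ (G ⊓ centralizer (gn (quadraticRootSubgroups G))) := by
  induction e : rk x using Nat.strong_induction_on generalizing x with | _ n ih => ?_
  obtain h | ⟨y, hy, h4, h5, h6⟩ := hG.split h2 h3 hx
  · exact mem_sup_right ⟨hx.ux_mem, mem_cent_roots _ h⟩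
  · convert mul_mem (ih _ (e ▸ h6) h4 rfl) (mem_sup_left (le_gn (mem_roots.2 ⟨y, hy, rfl⟩) (ux_mem_Eg hy.q.mem_Es))) using 1
    exact Units.ext (by simp only [Units.val_mul, ux_val, mul_add, add_mul, h5, mul_one, one_mul]; abel)

theorem IC.sup_eq (hG : IC G) (h : closure (quadraticElements G) = G) :
    gn (quadraticRootSubgroups G) ⊔ (G ⊓ centralizer (gn (quadraticRootSubgroups G))) = G :=
  (sup_le gn_roots_le inf_le_left).antisymm (h.ge.trans ((closure_le _).2 fun σ hσ =>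
    (Units.ext (by simp) : ux (q_iff.1 hσ).1.sq = σ) ▸ hG.mem_sup h2 h3 (q_iff.1 hσ).1))

theorem IC.le_cp (hG : IC G) (h : closure (quadraticElements G) = G) (A : Subgroup (End k M)ˣ) :
    G ≤ gn (cp (quadraticRootSubgroups G) A) ⊔ centralizer (gn (cp (quadraticRootSubgroups G) A)) :=
  (hG.sup_eq h2 h3 h).ge.trans (sup_le (hG.pr h2 h3).gn_le (le_sup_of_le_right (inf_le_right.trans
    (centralizer_le (iSup₂_le fun _ h => le_gn h.1)))))

theorem IC.cp (hG : IC G) (h : closure (quadraticElements G) = G) (A : Subgroup (End k M)ˣ) : IC (gn (cp (quadraticRootSubgroups G) A)) :=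
  hG.of_le (iSup₂_le fun _ h => (le_gn h.1).trans gn_roots_le) (hG.le_cp h2 h3 h A)

theorem IC.qs (hG : IC G) (h : closure (quadraticElements G) = G) (hA : A ∈ quadraticRootSubgroups G) :
    IsQuasisimple (gn (Root.cp (quadraticRootSubgroups G) A)) := by
  refine qs_of_pr ((hG.pr h2 h3).cp A) (hG.cp h2 h3 h A) (mem_cp hA) (cn_so' hA) (fun C hC D hD e => ?_) fun C hC D hD e => ?_ <;>
    obtain ⟨x, hx, rfl⟩ := mem_roots.1 hC.1 <;> obtain ⟨y, hy, rfl⟩ := mem_roots.1 hD.1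
  · exact (hx.sp h2 h3 hy (hx.opp_of_rk h2 h3 hy hG e)).sup_le_commutator (hx.card h2 h3)
  · exact hx.un h2 hy (by_contra fun e' => (hx.sp h2 h3 hy e').rk.comm_ne_bot e)

theorem IC.finite (hG : IC G) : (Root.cp (quadraticRootSubgroups G) '' quadraticRootSubgroups G).Finite := by
  have : ∀ T : Root.cp (quadraticRootSubgroups G) '' quadraticRootSubgroups G, ∃ x u, ∃ (hx : x * x = 0) (hu : u * u = 0),
      x ≠ 0 ∧ x * u * x = x ∧ ux hx ∈ gn T.1 ∧ ux hu ∈ gn T.1 := by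
    rintro ⟨_, A, hA, rfl⟩
    obtain ⟨x, hx, rfl⟩ := mem_roots.1 hA
    obtain ⟨y, hy, h⟩ := hG.exists_opp h2 hx
    obtain ⟨u, hu, e, -⟩ := hx.partner h2 h3 hy h hx.q.mem_Es hx.ne
    have := mem_roots.2 ⟨y, hy, rfl⟩
    exact ⟨x, u, hx.q.sq, hu.1.sq, hx.ne, e, le_gn (mem_cp hA) (ux_mem_Eg hx.q.mem_Es),
      le_gn (show _ ∈ Root.cp _ _ from ⟨this, .single ⟨hA, this, (hx.sp h2 h3 hy h).rk⟩⟩) (ux_mem_Eg hu)⟩
  choose x u hx hu h0 e h4 h5 using this
  refine LinearIndependent.finite (R := k) (f := x) (linearIndependent_iff'.2 fun s g h j hj => ?_)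
  have := congrArg (fun t => x j * u j * t - t * (x j * u j)) h
  simp only [Finset.mul_sum, Finset.sum_mul, ← Finset.sum_sub_distrib, mul_zero, zero_mul, sub_zero, mul_smul_comm, smul_mul_assoc,
    ← smul_sub] at this
  rw [Finset.sum_eq_single j (fun i _ hi => ?_) (fun e => absurd hj e), e, sq_s (hx j), sub_zero] at this
  · exact (smul_eq_zero_iff_left (h0 j)).1 this
  have key : ∀ {a b : End k M} {ha : a * a = 0} {hb : b * b = 0}, ux ha ∈ gn i.1 → ux hb ∈ gn j.1 → Commute b a := fun ha hb => by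
    obtain ⟨A, -, hA⟩ := i.2
    obtain ⟨B, -, hB⟩ := j.2
    have := congrArg Units.val (comm_bot_iff.1 ((hG.pr h2 h3).comm_gn fun e => hi (Subtype.ext (hA.symm.trans (e.trans hB)))) _ (hA ▸ ha) _ (hB ▸ hb))
    simp only [Units.val_mul, ux_val] at this
    unfold Commute SemiconjBy
    linear_combination (norm := noncomm_ring) -this
  rw [((key (h4 i) (h4 j)).mul_left (key (h4 i) (h5 j))).eq, sub_self, smul_zero]

end Cfsg.Lib.Quad
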