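import Cfsg.Agent.Lib.Quad.Unip

/-!
# Quadratic elements
-/

set_option autoImplicit false
set_option linter.unusedSectionVars false

namespace Cfsg.Lib.Quad

open Module LinearMap Cfsg.Lib.Transfer

variable {k M : Type*} [Field k] [AddCommGroup M] [Module k M] [FiniteDimensional k M] {G H : Subgroup (End k M)ˣ}
  {x y u v w p q g g' : End k M} {σ τ : (End k M)ˣ}

/-- The group as a monoid of endomorphisms. -/
def gm (G : Subgroup (End k M)ˣ) : Submonoid (End k M) := G.toSubmonoid.map (Units.coeHom _)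

theorem mem_gm : (σ : End k M) ∈ gm G ↔ σ ∈ G := ⟨fun ⟨_, h, e⟩ => Units.ext e ▸ h, fun h => ⟨σ, h, rfl⟩⟩

theorem inv_mem_gm (h : g ∈ gm G) (e : g' * g = 1) : g' ∈ gm G ∧ g * g' = 1 := by
  obtain ⟨σ, h, rfl⟩ := h
  obtain rfl : g' = ↑σ⁻¹ := Units.eq_inv_of_mul_eq_one_right e
  exact ⟨mem_gm.2 (inv_mem h), σ.mul_inv⟩

/-- The unit `1 + x`. -/
def ux (h : x * x = 0) : (End k M)ˣ := ⟨1 + x, 1 - x, by simp [mul_sub, add_mul, h], by simp [sub_mul, mul_add, h]⟩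

@[simp] theorem ux_val (h : x * x = 0) : (ux h : End k M) = 1 + x := rfl
@[simp] theorem ux_inv (h : x * x = 0) : ((ux h)⁻¹ :).1 = 1 - x := rfl

theorem inv_sub_one (h : (σ.1 - 1) * (σ.1 - 1) = 0) : (σ⁻¹).1 - 1 = -(σ.1 - 1) := by
  rw [show σ = ux h from Units.ext (by simp), ux_inv]; simp

/-- Quadratic elements (with `0`). -/
structure Q (G : Subgroup (End k M)ˣ) (x : End k M) : Prop where
  sq : x * x = 0
  mem : ∀ c : k, 1 + c • x ∈ gm G

/-- Rank. -/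
noncomputable def rk (x : End k M) : ℕ := finrank k (range x)

/-- Quadratic elements of minimal rank. -/
structure Qd (G : Subgroup (End k M)ˣ) (x : End k M) : Prop where
  q : Q G x
  ne : x ≠ 0
  min : ∀ y, Q G y → y ≠ 0 → rk x ≤ rk y

theorem q_iff : σ ∈ quadraticElements G ↔ Q G (σ.1 - 1) ∧ σ.1 - 1 ≠ 0 :=
  ⟨fun h => ⟨⟨h.2.1.1, fun c => (mem_gm (σ := ux (x := c • (σ.1 - 1)) (by rw [smul_mul_smul_comm, h.2.1.1, smul_zero]))).2
    (h.2.2 ⟨c, rfl⟩)⟩, h.2.1.2⟩, fun h => ⟨mem_gm.1 (by simpa using h.1.mem 1), ⟨h.1.sq, h.2⟩, fun _ ⟨c, e⟩ => mem_gm.1 (e ▸ h.1.mem c)⟩⟩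

theorem qd_iff : σ ∈ minimalQuadraticElements G ↔ Qd G (σ.1 - 1) :=
  ⟨fun h => ⟨(q_iff.1 h.1).1, (q_iff.1 h.1).2, fun y hy h0 => by
    have : rk _ ≤ rk _ := h.2 (ux hy.sq) (q_iff.2 (by simpa using ⟨hy, h0⟩))
    simpa using this⟩,
    fun h => ⟨q_iff.2 ⟨h.q, h.ne⟩, fun _ h' => h.min _ (q_iff.1 h').1 (q_iff.1 h').2⟩⟩

theorem Q.zero : Q G 0 := ⟨by simp, by simp [one_mem]⟩

theorem Q.ux_mem (h : Q G x) : ux h.sq ∈ G := mem_gm.1 (by simpa using h.mem 1)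

theorem Q.mono (h : Q H x) (e : H ≤ G) : Q G x := ⟨h.sq, fun c => Submonoid.monotone_map e (h.mem c)⟩

theorem Q.smul (h : Q G x) (c : k) : Q G (c • x) := ⟨by rw [smul_mul_smul_comm, h.sq, smul_zero], fun d => smul_smul d c x ▸ h.mem _⟩

theorem Q.neg (h : Q G x) : Q G (-x) := by simpa using h.smul (-1)

theorem Q.add (hx : Q G x) (hy : Q G y) (h : x * y = 0) (h' : y * x = 0) : Q G (x + y) :=
  ⟨by simp [mul_add, add_mul, hx.sq, hy.sq, h, h'], fun c => by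
    convert mul_mem (hx.mem c) (hy.mem c) using 1
    simp [mul_add, add_mul, h]; abel⟩

theorem Q.sub (hx : Q G x) (hy : Q G y) (h : x * y = 0) (h' : y * x = 0) : Q G (x - y) :=
  sub_eq_add_neg x y ▸ hx.add hy.neg (by simp [h]) (by simp [h'])

theorem Q.conj (hx : Q G x) (hg : g ∈ gm G) (e : g' * g = 1) : Q G (g * x * g') :=
  ⟨by rw [mul_assoc, mul_assoc, ← mul_assoc g', ← mul_assoc g', e, one_mul, ← mul_assoc x, hx.sq, zero_mul, mul_zero], fun c => by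
    convert mul_mem (mul_mem hg (hx.mem c)) (inv_mem_gm hg e).1 using 1
    simp [mul_add, add_mul, (inv_mem_gm hg e).2]⟩

theorem Q.comm (hx : Q G x) (hy : Q G y) (h : x * y * x = 0) (h' : y * x * y = 0) : Q G (x * y - y * x) := by
  have h1 : ∀ t, x * (x * t) = 0 := fun t => by rw [← mul_assoc, hx.sq, zero_mul]
  have h2 : ∀ t, y * (y * t) = 0 := fun t => by rw [← mul_assoc, hy.sq, zero_mul]
  have h3 : ∀ t, x * (y * (x * t)) = 0 := fun t => by rw [← mul_assoc, ← mul_assoc, h, zero_mul]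
  have h4 : ∀ t, y * (x * (y * t)) = 0 := fun t => by rw [← mul_assoc, ← mul_assoc, h', zero_mul]
  rw [mul_assoc] at h h'
  refine ⟨by simp [mul_sub, sub_mul, mul_assoc, *], fun c => ?_⟩
  convert mul_mem (mul_mem (mul_mem (hx.mem c) (hy.mem 1)) (hx.mem (-c))) (hy.mem (-1)) using 1
  simp [mul_add, add_mul, mul_assoc, hx.sq, hy.sq, *]
  module

theorem q_span {S : Set (End k M)} (hS : ∀ v ∈ S, Q G v) (h : ∀ v ∈ S, ∀ w ∈ S, v * w = 0) (hv : v ∈ Submodule.span k S) : Q G v := by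
  have key : ∀ v ∈ Submodule.span k S, ∀ w ∈ Submodule.span k S, v * w = 0 := fun v hv w hw => by
    have := Submodule.mul_mem_mul hv hw
    rwa [Submodule.span_mul_span, Submodule.span_eq_bot.2 (by rintro _ ⟨v, hv, w, hw, rfl⟩; exact h v hv w hw), Submodule.mem_bot] at this
  induction hv using Submodule.span_induction with
  | mem v hv => exact hS v hv
  | zero => exact .zero
  | add v w hv hw h1 h2 => exact h1.add h2 (key v hv w hw) (key w hw v hv)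
  | smul c v _ h => exact h.smul c

theorem mul_eq_zero_iff : p * x = 0 ↔ range x ≤ ker p := range_le_ker_iff.symm

theorem le_l (h : range v ≤ range x) (e : p * x = 0) : p * v = 0 := mul_eq_zero_iff.2 (h.trans (mul_eq_zero_iff.1 e))

theorem le_r (h : ker x ≤ ker v) (e : x * q = 0) : v * q = 0 := mul_eq_zero_iff.2 ((mul_eq_zero_iff.1 e).trans h)

theorem range_mul_le : range (x * q) ≤ range x := range_comp_le_range _ _

theorem ker_le_mul : ker x ≤ ker (p * x) := ker_le_ker_comp _ _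

theorem rk_mono (h : range v ≤ range x) : rk v ≤ rk x := Submodule.finrank_mono h

theorem range_eq_of_rk (h : range v ≤ range x) (h' : rk x ≤ rk v) : range v = range x := Submodule.eq_of_le_of_finrank_le h h'

theorem ker_eq_of_rk (h : ker x ≤ ker v) (h' : rk x ≤ rk v) : ker x = ker v := Submodule.eq_of_le_of_finrank_le h (by
  have := finrank_range_add_finrank_ker x
  have := finrank_range_add_finrank_ker v
  unfold rk at h'; omega)

theorem rk_add_ker (p x : End k M) : rk (p * x) + finrank k ↥(range x ⊓ ker p) = rk x := by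
  have := finrank_range_add_finrank_ker (p.domRestrict (range x))
  rwa [range_domRestrict, ker_domRestrict, ← range_comp, ← Submodule.finrank_map_subtype_eq, Submodule.map_comap_subtype] at this

theorem rk_mul_le : rk (p * x * q) ≤ rk x := (rk_mono range_mul_le).trans (le_of_le_of_eq (Nat.le_add_right _ _) (rk_add_ker p x))

theorem range_add_le : range (x + y) ≤ range x ⊔ range y := by
  rintro _ ⟨m, rfl⟩; exact Submodule.add_mem_sup ⟨m, rfl⟩ ⟨m, rfl⟩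

theorem rk_add_le : rk (x + y) ≤ rk x + rk y :=
  (Submodule.finrank_mono range_add_le).trans (Submodule.finrank_add_le_finrank_add_finrank _ _)

theorem range_mul_le_inf (h : p * x * q = 0) : range (x * q) ≤ range x ⊓ ker p :=
  le_inf range_mul_le (mul_eq_zero_iff.1 (mul_assoc p x q ▸ h))

theorem rk_frob (h : p * x * q = 0) : rk (x * q + p * x) ≤ rk x :=
  rk_add_le.trans ((add_comm _ _).trans_le ((Nat.add_le_add_left (Submodule.finrank_mono (range_mul_le_inf h)) _).trans (rk_add_ker p x).le))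

theorem Qd.of_rk (h : Qd G x) (hv : Q G v) (h0 : v ≠ 0) (e : rk v ≤ rk x) : Qd G v := ⟨hv, h0, fun y hy h' => e.trans (h.min y hy h')⟩

theorem Qd.cancel (h : Qd G x) (hw : Q G w) (h0 : w ≠ 0) (h1 : rk w ≤ rk v) (h2 : range v ≤ range x) (e : p * v = 0) : p * x = 0 :=
  le_l (range_eq_of_rk h2 ((h.min w hw h0).trans h1)).ge e

theorem Qd.conj (hx : Qd G x) (hg : g ∈ gm G) (e : g' * g = 1) : Qd G (g * x * g') :=
  hx.of_rk (hx.q.conj hg e) (fun h => hx.ne (by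
    rw [← one_mul x, ← mul_one x, ← e, mul_assoc, ← mul_assoc x, ← mul_assoc g, ← mul_assoc g, h, zero_mul, mul_zero])) rk_mul_le

theorem Qd.neg (hx : Qd G x) : Qd G (-x) := hx.of_rk hx.q.neg (neg_ne_zero.2 hx.ne) (rk_mono (range_neg x).le)

theorem exists_qd (hx : Q G x) (h : x ≠ 0) : ∃ y, Qd G y :=
  let ⟨y, h1, h2⟩ := (measure rk).wf.has_min {y | Q G y ∧ y ≠ 0} ⟨x, hx, h⟩
  ⟨y, h1.1, h1.2, fun z h3 h4 => not_lt.1 (h2 z ⟨h3, h4⟩)⟩

/-- The space of quadratic elements acting like `x`. -/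
def Es (G : Subgroup (End k M)ˣ) (x : End k M) : Submodule k (End k M) where
  carrier := {v | Q G v ∧ range v ≤ range x ∧ ker x ≤ ker v ∧ x * v = 0}
  zero_mem' := ⟨.zero, by simp, by simp, by simp⟩
  add_mem' h h' := ⟨h.1.add h'.1 (le_r h.2.2.1 h'.2.2.2) (le_r h'.2.2.1 h.2.2.2), range_add_le.trans (sup_le h.2.1 h'.2.1),
    fun m hm => by simp [mem_ker.1 (h.2.2.1 hm), mem_ker.1 (h'.2.2.1 hm)], by rw [mul_add, h.2.2.2, h'.2.2.2, add_zero]⟩
  smul_mem' c v h := ⟨h.1.smul c, (range_smul_le_range _ _).trans h.2.1, h.2.2.1.trans (ker_le_ker_smul _ _), by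
    rw [mul_smul_comm, h.2.2.2, smul_zero]⟩

theorem mem_Es (hx : x * x = 0) (hv : Q G v) (h1 : range v ≤ range x) (h2 : ker x ≤ ker v) : v ∈ Es G x := ⟨hv, h1, h2, le_l h1 hx⟩

theorem Q.mem_Es (hx : Q G x) : x ∈ Es G x := Quad.mem_Es hx.sq hx le_rfl le_rfl

theorem Es_mul (h : v ∈ Es G x) (h' : w ∈ Es G x) : v * w = 0 := le_r h.2.2.1 h'.2.2.2

theorem Es_l (h : v ∈ Es G x) (e : p * x = 0) : p * v = 0 := le_l h.2.1 e

theorem Es_r (h : v ∈ Es G x) (e : x * q = 0) : v * q = 0 := le_r h.2.2.1 e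

theorem Qd.of_Es (h : Qd G x) (hv : v ∈ Es G x) (h0 : v ≠ 0) : Qd G v ∧ range v = range x ∧ ker v = ker x :=
  ⟨h.of_rk hv.1 h0 (rk_mono hv.2.1), range_eq_of_rk hv.2.1 (h.min v hv.1 h0), (ker_eq_of_rk hv.2.2.1 (h.min v hv.1 h0)).symm⟩

theorem Qd.symm (h : Qd G x) (hv : v ∈ Es G x) (h0 : v ≠ 0) : x ∈ Es G v :=
  mem_Es hv.1.sq h.q (h.of_Es hv h0).2.1.ge (h.of_Es hv h0).2.2.le

theorem Es_le (hv : v ∈ Es G x) : Es G v ≤ Es G x := fun _ h => ⟨h.1, h.2.1.trans hv.2.1, hv.2.2.1.trans h.2.2.1, Es_l h hv.2.2.2⟩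

theorem Qd.Es_eq (h : Qd G x) (hv : v ∈ Es G x) (h0 : v ≠ 0) : Es G v = Es G x := (Es_le hv).antisymm (Es_le (h.symm hv h0))

theorem conj_mem_Es (hv : v ∈ Es G x) (hg : g ∈ gm G) (e : g' * g = 1) : g * v * g' ∈ Es G (g * x * g') := by
  refine ⟨hv.1.conj hg e, ?_, fun m hm => ?_, ?_⟩
  · rintro _ ⟨m, rfl⟩
    obtain ⟨n, hn⟩ := hv.2.1 ⟨g' m, rfl⟩
    exact ⟨g n, by simp [← hn, ← End.mul_apply g' g, e]⟩
  · have : x (g' m) = 0 := by simpa [← End.mul_apply g' g, e] using congrArg g' (mem_ker.1 hm)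
    simp [mem_ker.1 (hv.2.2.1 this)]
  · rw [mul_assoc, mul_assoc, ← mul_assoc g', ← mul_assoc g', e, one_mul, ← mul_assoc x, hv.2.2.2, zero_mul, mul_zero]

/-- The root subgroup of `x`. -/
def Eg (G : Subgroup (End k M)ˣ) (x : End k M) : Subgroup (End k M)ˣ where
  carrier := {σ | σ.1 - 1 ∈ Es G x}
  one_mem' := by simp
  mul_mem' {σ τ} h h' := by
    rw [Set.mem_ofPred_eq] at *
    convert add_mem h h' using 1
    rw [Units.val_mul]
    linear_combination (norm := noncomm_ring) Es_mul h h'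
  inv_mem' h := by rw [Set.mem_ofPred_eq, inv_sub_one h.1.sq]; exact neg_mem h

theorem mem_Eg : σ ∈ Eg G x ↔ σ.1 - 1 ∈ Es G x := Iff.rfl

theorem ux_mem_Eg (h : v ∈ Es G x) : ux h.1.sq ∈ Eg G x := by simpa [mem_Eg]

theorem forall_Eg {P : (End k M)ˣ → Prop} : (∀ σ ∈ Eg G x, P σ) ↔ ∀ v (h : v ∈ Es G x), P (ux h.1.sq) :=
  ⟨fun h _ hv => h _ (ux_mem_Eg hv), fun h σ hσ => (Units.ext (by simp) : ux hσ.1.sq = σ) ▸ h _ hσ⟩

theorem ux_ne_one (h : x * x = 0) : ux h ≠ 1 ↔ x ≠ 0 := by simp [Units.ext_iff]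

theorem Eg_le : Eg G x ≤ G := forall_Eg.2 fun _ h => h.1.ux_mem

theorem Qd.Eg_eq (h : Qd G x) (hv : v ∈ Es G x) (h0 : v ≠ 0) : Eg G v = Eg G x := by ext; rw [mem_Eg, mem_Eg, h.Es_eq hv h0]

theorem nl_Eg : nl k (Eg G x) = Es G x := (nl_le.2 fun _ h => h).antisymm fun v h => by simpa using mem_nl (k := k) (ux_mem_Eg h)

theorem cj_Eg (h : σ ∈ G) : cj σ (Eg G x) = Eg G (σ.1 * x * (σ⁻¹).1) := by
  have key : ∀ σ ∈ G, ∀ x, cj σ (Eg G x) ≤ Eg G (σ.1 * x * (σ⁻¹).1) := fun σ h x => cj_le_iff.2 fun τ hτ => by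
    simpa [mem_Eg, mul_sub, sub_mul] using conj_mem_Es hτ (mem_gm.2 h) σ.inv_mul
  exact (key σ h x).antisymm ((cj_le_cj (g := σ⁻¹)).1 (by simpa [cj_inv_cj, mul_assoc] using key σ⁻¹ (inv_mem h) (σ.1 * x * (σ⁻¹).1)))

theorem class_eq (h : σ ∈ minimalQuadraticElements G) : sameActionClass G σ ∪ {1} = Eg G (σ.1 - 1) := by
  rw [qd_iff] at h
  ext τ
  refine ⟨?_, fun h' => or_iff_not_imp_right.2 fun e => ?_⟩
  · rintro (h' | rfl)
    · exact mem_Es h.q.sq (qd_iff.1 h'.1).q h'.2.2.le h'.2.1.ge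
    · exact one_mem (Eg G _)
  · have := h.of_Es h' fun e' => e (Units.ext (sub_eq_zero.1 e'))
    exact ⟨qd_iff.2 this.1, this.2.2, this.2.1⟩

theorem same_eq (h : σ ∈ minimalQuadraticElements G) : sameActionSubgroup G σ = Eg G (σ.1 - 1) := by
  rw [sameActionSubgroup, ← Subgroup.closure_union_one, class_eq h, Subgroup.closure_eq]

theorem mem_roots {A : Subgroup (End k M)ˣ} : A ∈ quadraticRootSubgroups G ↔ ∃ x, Qd G x ∧ Eg G x = A :=
  ⟨fun ⟨_, h, e⟩ => ⟨_, qd_iff.1 h, (e.trans (same_eq h)).symm⟩, fun ⟨x, h, e⟩ =>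
    have : ux h.q.sq ∈ minimalQuadraticElements G := qd_iff.2 (by simpa)
    ⟨_, this, by simp [same_eq this, e]⟩⟩

instance : IsMulCommutative (Eg G x) := ⟨⟨fun a b => Subtype.ext (Units.ext (by
  have h1 := Es_mul a.2 b.2
  have h2 := Es_mul b.2 a.2
  simp only [Subgroup.coe_mul, Units.val_mul]
  linear_combination (norm := noncomm_ring) h1 - h2))⟩⟩

end Cfsg.Lib.Quad
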