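import Cfsg.Agent.Lib.Quad.Basic
import Cfsg.Agent.Lib.Root.Pade

/-!
# Pairs of quadratic elements
-/

set_option autoImplicit false
set_option linter.unusedSectionVars false

namespace Cfsg.Lib.Quad

open Module LinearMap Polynomial Cfsg.Lib.Root

variable {k M R : Type*} [Field k] [AddCommGroup M] [Module k M] [FiniteDimensional k M] {G : Subgroup (End k M)ˣ}
  [CommRing R] [Algebra k R] [Module R (End k M)] [IsScalarTower R (End k M) (End k M)] [IsScalarTower k R (End k M)]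
  {x y u v g : End k M} {ζ a r s α β γ δ α' β' γ' δ' : R} {P : Ideal R}

variable (R) in
/-- Endomorphisms commuting with the scalars. -/
def Z (x : End k M) : Prop := ∀ (r : R) u, x * (r • u) = r • (x * u)

theorem Z.one : Z R (1 : End k M) := fun _ _ => by simp
theorem Z.add (h : Z R x) (h' : Z R y) : Z R (x + y) := fun r u => by rw [add_mul, add_mul, h, h', smul_add]
theorem Z.sub (h : Z R x) (h' : Z R y) : Z R (x - y) := fun r u => by rw [sub_mul, sub_mul, h, h', smul_sub]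
theorem Z.mul (h : Z R x) (h' : Z R y) : Z R (x * y) := fun r u => by rw [mul_assoc, mul_assoc, h', h]
theorem Z.smul (h : Z R x) (s : R) : Z R (s • x) := fun r u => by rw [smul_mul_assoc, smul_mul_assoc, h, smul_comm]

/-- Scalars acting injectively on the image of `x`. -/
def Rg (x : End k M) (r : R) : Prop := ∀ s : R, (s * r) • x = 0 → s • x = 0

theorem Rg.pow (h : Rg x r) (n : ℕ) : Rg x (r ^ n) := by
  induction n with
  | zero => exact fun s => by simp
  | succ n ih => exact fun s e => ih s (h _ (by rwa [mul_assoc, ← pow_succ]))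

theorem Rg.of_mul (h : Rg x (s * r)) : Rg x r := fun t e => h t (by rw [mul_left_comm, mul_smul, e, smul_zero])

theorem Z.range_le (h : Z R x) (r : R) : range (r • x) ≤ range x := by
  rw [← mul_one x, ← h, mul_one]; exact range_mul_le

theorem Qd.rg (h : Qd G x) (hz : Z R x) (hv : Q G v) (h0 : v ≠ 0) (h1 : rk v ≤ rk (r • x)) : Rg x r := fun s e => by
  simpa using h.cancel (p := s • 1) hv h0 h1 (hz.range_le r) (by simpa [smul_smul])

/-- A pair of square zero elements with `xy + yx = ζ`. -/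
structure Pr (x y : End k M) (ζ : R) : Prop where
  xx : x * x = 0
  yy : y * y = 0
  z : x * y + y * x = ζ • 1
  cx : Z R x
  cy : Z R y
  f : ∀ r : R, r • (1 : End k M) = 0 → r = 0

/-- Elements of the group generated by the pair. -/
def el (x y : End k M) (α β γ δ : R) : End k M := 1 + α • x + β • y + γ • (x * y) + δ • (y * x)

/-- Conjugates of `x`. -/
def cv (x y : End k M) (ζ a β : R) : End k M := a ^ 2 • x - (a * β) • (x * y - y * x) - (β ^ 2 * ζ) • y

/-- Admissible parameters. -/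
structure Ok (G : Subgroup (End k M)ˣ) (x y : End k M) (ζ α β γ δ : R) : Prop where
  rel : γ + δ + ζ * γ * δ = α * β
  mem : el x y α β γ δ ∈ gm G

theorem ok_x (h : Q G (r • x)) : Ok G x y ζ r 0 0 0 := ⟨by simp, by simpa [el] using h.mem 1⟩
theorem ok_y (h : Q G (r • y)) : Ok G x y ζ 0 r 0 0 := ⟨by simp, by simpa [el] using h.mem 1⟩

theorem exists_idem [Module.Finite k R] (ζ : R) : ∃ (t : R) (n : ℕ), t * ζ * (t * ζ) = t * ζ ∧ ζ ^ n * (t * ζ) = ζ ^ n := by
  have := IsArtinianRing.of_finite k R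
  obtain ⟨n, y, h⟩ := IsArtinian.exists_pow_succ_smul_dvd ζ (1 : R)
  have h1 : ∀ j, ζ ^ n * (ζ * y) ^ j = ζ ^ n := fun j => by
    induction j with
    | zero => simp
    | succ j ih => simp only [smul_eq_mul, mul_one, Nat.succ_eq_add_one] at h; linear_combination (ζ * y) * ih + h
  exact ⟨ζ ^ n * y ^ (n + 1), n, by linear_combination (ζ * y ^ (n + 1)) * h1 (n + 1), by linear_combination h1 (n + 1)⟩

theorem Rg.exists_inv [Module.Finite k R] (h : Rg x r) : ∃ s : R, (s * r) • x = x := by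
  obtain ⟨t, n, -, e⟩ := exists_idem (k := k) r
  exact ⟨t, by simpa [sub_smul, sub_eq_zero] using h.pow n (t * r - 1) (by rw [show (t * r - 1) * r ^ n = 0 by linear_combination e, zero_smul])⟩

namespace Pr

variable (h : Pr x y ζ)
include h

theorem symm : Pr y x ζ := ⟨h.yy, h.xx, add_comm (x * y) _ ▸ h.z, h.cy, h.cx, h.f⟩

theorem xyx : x * (y * x) = ζ • x := by simpa [mul_add, ← mul_assoc, h.xx, h.cx ζ] using congrArg (x * ·) h.z

theorem sm : x * x = 0 ∧ y * y = 0 ∧ x * (y * x) = ζ • x ∧ y * (x * y) = ζ • y ∧ (∀ t, x * (x * t) = 0) ∧ (∀ t, y * (y * t) = 0) ∧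
    (∀ t, x * (y * (x * t)) = ζ • (x * t)) ∧ (∀ t, y * (x * (y * t)) = ζ • (y * t)) ∧
    (∀ (r : R) t, x * (r • t) = r • (x * t)) ∧ ∀ (r : R) t, y * (r • t) = r • (y * t) :=
  ⟨h.xx, h.yy, h.xyx, h.symm.xyx, fun t => by rw [← mul_assoc, h.xx, zero_mul], fun t => by rw [← mul_assoc, h.yy, zero_mul],
    fun t => by rw [← smul_mul_assoc, ← h.xyx, mul_assoc, mul_assoc], fun t => by rw [← smul_mul_assoc, ← h.symm.xyx, mul_assoc, mul_assoc],
    h.cx, h.cy⟩

theorem kill (e : r • x = 0) : r • (x * y) = 0 ∧ r • (y * x) = 0 ∧ r * ζ = 0 := by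
  have h1 : r • (x * y) = 0 := by rw [← smul_mul_assoc, e, zero_mul]
  have h2 : r • (y * x) = 0 := by rw [← h.cy, e, mul_zero]
  exact ⟨h1, h2, h.f _ (by rw [mul_smul, ← h.z, smul_add, h1, h2, add_zero])⟩

theorem kill_cv (e : r • x = 0) : r • cv x y ζ a β = 0 := by
  unfold cv
  linear_combination (norm := module) a ^ 2 • e - (a * β) • ((h.kill e).1 - (h.kill e).2.1) - (β ^ 2 * (h.kill e).2.2) • y

theorem mem_of_kill [P.IsPrime] (e : r • x = 0) (h1 : ζ ∉ P) : r ∈ P :=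
  (Ideal.IsPrime.mem_or_mem ‹_› ((h.kill e).2.2 ▸ P.zero_mem)).resolve_right h1

theorem z_el : Z R (el x y α β γ δ) :=
  (((Z.one.add (h.cx.smul _)).add (h.cy.smul _)).add ((h.cx.mul h.cy).smul _)).add ((h.cy.mul h.cx).smul _)

theorem el_mul : el x y α β γ δ * el x y α' β' γ' δ' = el x y (α + α' + ζ * (α * δ' + γ * α')) (β + β' + ζ * (β * γ' + δ * β'))
    (γ + γ' + α * β' + ζ * γ * γ') (δ + δ' + β * α' + ζ * δ * δ') := by
  simp only [el, mul_add, add_mul, smul_mul_assoc, mul_assoc, h.sm, mul_one, one_mul, mul_zero, zero_mul, smul_zero]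
  module

theorem el_inv (o : Ok G x y ζ α β γ δ) : el x y (-α) (-β) δ γ * el x y α β γ δ = 1 := by
  rw [h.el_mul, el]
  linear_combination (norm := module) o.rel • (x * y + y * x)

theorem ok_mul (o : Ok G x y ζ α β γ δ) (o' : Ok G x y ζ α' β' γ' δ') : Ok G x y ζ (α + α' + ζ * (α * δ' + γ * α'))
    (β + β' + ζ * (β * γ' + δ * β')) (γ + γ' + α * β' + ζ * γ * γ') (δ + δ' + β * α' + ζ * δ * δ') :=
  ⟨by linear_combination (1 + ζ * (γ' + δ' + ζ * γ' * δ' - α' * β')) * o.rel + o'.rel, h.el_mul ▸ mul_mem o.mem o'.mem⟩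

theorem ok_inv (o : Ok G x y ζ α β γ δ) : Ok G x y ζ (-α) (-β) δ γ :=
  ⟨by linear_combination o.rel, (inv_mem_gm o.mem (h.el_inv o)).1⟩

theorem el_conj : el x y α β γ δ * x * el x y (-α) (-β) δ γ = cv x y ζ (1 + γ * ζ) β := by
  simp only [el, cv, mul_add, add_mul, smul_mul_assoc, mul_assoc, h.sm, mul_one, one_mul, mul_zero, zero_mul, smul_zero]
  module

theorem x_el_x : x * el x y α β γ δ * x = (β * ζ) • x := by
  simp only [el, mul_add, add_mul, smul_mul_assoc, mul_assoc, h.sm, mul_one, mul_zero, zero_mul, smul_zero]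
  module

theorem cv_qd (hx : Qd G x) (o : Ok G x y ζ α β γ δ) : Qd G (cv x y ζ (1 + γ * ζ) β) := h.el_conj ▸ hx.conj o.mem (h.el_inv o)

theorem pr_cv : Pr x (cv x y ζ a β) (-(β * ζ) ^ 2) := by
  refine ⟨h.xx, ?_, ?_, h.cx, ((h.cx.smul _).sub (((h.cx.mul h.cy).sub (h.cy.mul h.cx)).smul _)).sub (h.cy.smul _), h.f⟩ <;>
    simp only [cv, mul_sub, sub_mul, smul_mul_assoc, mul_assoc, h.sm, mul_zero, smul_zero]
  · module
  · linear_combination (norm := module) (-β ^ 2 * ζ) • h.z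

theorem comm_cv : x * cv x y ζ a β - cv x y ζ a β * x = (2 * a * β * ζ) • x - (β ^ 2 * ζ) • (x * y - y * x) := by
  simp only [cv, mul_sub, sub_mul, smul_mul_assoc, mul_assoc, h.sm, mul_zero, smul_zero]
  module

theorem q_comm (hx : Q G x) (hy : Q G y) (e : ζ • x = 0) (e' : ζ • y = 0) : Q G (x * y - y * x) :=
  hx.comm hy (by rw [mul_assoc, h.xyx, e]) (by rw [mul_assoc, h.symm.xyx, e'])

theorem exists_ok (hx : Q G x) (hy : Q G y) {a c : k[X]} (e : Rch a c) :
    ∃ α γ δ, Ok G x y ζ α (aeval ζ c) γ δ ∧ 1 + γ * ζ = aeval ζ a := by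
  induction e with
  | one => exact ⟨0, 0, 0, by simpa using ok_x (r := 0) (by simpa using .zero), by simp⟩
  | up s _ ih =>
    obtain ⟨α, γ, δ, o, e⟩ := ih
    have := h.ok_mul (ok_x (r := algebraMap k R s) (by simpa using hx.smul s)) o
    simp only [zero_mul, mul_zero, add_zero, zero_add] at this
    exact ⟨_, _, _, this, by simp [← e]; ring⟩
  | lo s _ ih =>
    obtain ⟨α, γ, δ, o, e⟩ := ih
    have := h.ok_mul (ok_y (r := algebraMap k R s) (by simpa using hy.smul s)) o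
    simp only [zero_mul, mul_zero, add_zero, zero_add] at this
    exact ⟨_, _, _, by convert this using 1; simp [← e]; ring, e⟩

end Pr

variable (h2 : (2 : k) ≠ 0)
include h2

theorem Pr.smul_eq_zero (h : Pr x y ζ) (hx : Qd G x) (hy : Q G y) (hn : IsNilpotent ζ) : ζ • x = 0 := by
  obtain ⟨n, hn⟩ := hn
  replace hn : ζ ^ (n + 1) = 0 := by rw [pow_succ, hn, zero_mul]
  induction n generalizing y ζ with
  | zero => rw [← pow_one ζ, hn, zero_smul]
  | succ n ih =>
    have h1 : ∀ c : k, Qd G (cv x y ζ 1 (algebraMap k R c)) := fun c => by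
      simpa using h.cv_qd hx (ok_y (r := algebraMap k R c) (by simpa using hy.smul c))
    have h3 := ih h.pr_cv (h1 1).q (by rw [neg_pow, ← pow_mul, map_one, one_mul, pow_eq_zero_of_le (by omega) hn, mul_zero])
    have h4 : ∀ c : k, -(algebraMap k R c * ζ) ^ 2 • x = 0 := fun c => by
      linear_combination (norm := module) c ^ 2 • h3
    have h5 := fun c => h.comm_cv ▸ h.pr_cv.q_comm hx.q (h1 c).q (h4 c) (h.kill_cv (h4 c))
    have h6 := (h.kill h3).2.2
    have h7 := ((h5 1).sub (h5 (-1)) ?_ ?_).smul (2 * 2)⁻¹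
    · rw [show _ - _ = (2 * 2 : k) • ζ • x by simp only [mul_smul, two_smul]; module, inv_smul_smul₀ (mul_ne_zero h2 h2)] at h7
      exact by_contra fun e => hx.ne (by simpa [hn] using (hx.rg h.cx h7 e le_rfl).pow (n + 1 + 1) 1)
    all_goals simp only [mul_sub, sub_mul, smul_mul_assoc, mul_assoc, h.sm, mul_zero, smul_zero]
    · linear_combination (norm := module) h6 • (-(4 • x) - x * y - y * x)
    · linear_combination (norm := module) h6 • (4 • x - x * y - y * x)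

variable [Module.Finite k R]

theorem Pr.cv_mul (h : Pr x y ζ) (hx : Qd G x) (o : Ok G x y ζ α β γ δ) (hn : IsNilpotent (β * ζ)) (hn' : ¬ IsNilpotent ζ) :
    (β * ζ) • x = 0 := by
  have h1 := h.pr_cv.smul_eq_zero h2 hx (h.cv_qd hx o).q (hn.pow_succ 1).neg
  have h3 := (h.kill h1).2.2
  have h4 := h.pr_cv.q_comm hx.q (h.cv_qd hx o).q h1 (h.kill_cv h1)
  have h5 : x * cv x y ζ (1 + γ * ζ) β - cv x y ζ (1 + γ * ζ) β * x = 0 := by
    by_contra e
    obtain ⟨t, n, h5, h6⟩ := exists_idem (k := k) ζ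
    have h7 : β ^ 2 * (t * ζ) = 0 := by linear_combination -β ^ 2 * (1 + t * ζ) * h5 - t ^ 3 * h3
    have h8 := hx.rg h.cx h4 e (r := 1 - t * ζ + β * (t * ζ)) (le_of_eq_of_le ?_ (rk_frob (p := -(1 - t * ζ) • cv x y ζ (1 + γ * ζ) β)
      (q := (1 - t * ζ) • cv x y ζ (1 + γ * ζ) β + (2 * (1 + γ * ζ) * ζ * (t * ζ)) • 1) ?_))
    · have h9 := h8 (t * ζ * β) (by rw [show t * ζ * β * _ = 0 by linear_combination (β ^ 2 - β) * h5 + h7, zero_smul])
      have h10 := (h.kill (h8 (t * ζ) (by rw [show t * ζ * _ = t * ζ * β by linear_combination (β - 1) * h5, h9]))).2.2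
      exact hn' ⟨n + 1, by linear_combination ζ ^ n * h10 - ζ * h6⟩
    · congr 1
      simp only [cv, mul_add, mul_sub, sub_mul, smul_mul_assoc, mul_assoc, h.sm, mul_zero, smul_zero, mul_one]
      match_scalars <;> grind
    · have := h.kill_cv (a := 1 + γ * ζ) (β := β) h1
      have h8 := h.pr_cv (a := 1 + γ * ζ) (β := β)
      generalize cv x y ζ (1 + γ * ζ) β = x' at *
      simp only [mul_add, smul_mul_assoc, mul_assoc, h8.sm, mul_one, this]
      match_scalars; grind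
  have h6 : β * ζ ^ 2 = 0 := by
    have h6 := h.comm_cv ▸ h5
    have h7 := h.f (algebraMap k R 2 * ((1 + γ * ζ) * β * ζ ^ 2)) (by
      have := congrArg (fun t => y * t + t * y) h6
      simp only [mul_sub, sub_mul, smul_mul_assoc, mul_assoc, h.sm, mul_zero, smul_zero, zero_mul] at this
      rw [map_ofNat]
      linear_combination (norm := module) this - (2 * (1 + γ * ζ) * β * ζ) • h.z)
    rw [← Algebra.smul_def, smul_eq_zero_iff_right h2] at h7
    linear_combination (1 + δ * ζ) * h7 - β * ζ ^ 3 * o.rel + α * h3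
  have h7 := h.pr_cv (a := 1 + γ * ζ) (β := β).z
  rw [show -(β * ζ) ^ 2 = 0 by linear_combination -β * h6, zero_smul] at h7
  have h8 : x * cv x y ζ (1 + γ * ζ) β = 0 := (smul_eq_zero_iff_right h2).1 (by linear_combination (norm := module) h7 + h5)
  rw [← h.x_el_x (α := α) (γ := γ) (δ := δ), ← mul_one (_ * _), ← h.el_inv o, ← mul_assoc, mul_assoc x, mul_assoc x, h.el_conj, h8, zero_mul]

variable (h3 : Nat.card k ≠ 3)
include h3

theorem Pr.exists_borel (h : Pr x y ζ) (hx : Q G x) (hy : Q G y) [P.IsMaximal] (hP : ζ ∉ P) (p : k[X]) (hp : aeval ζ p ∉ P) :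
    ∃ α β γ δ, Ok G x y ζ α β γ δ ∧ β ∈ P ∧ 1 + γ * ζ - aeval ζ p ∈ P := by
  letI := Ideal.Quotient.field P
  obtain ⟨a, c, e, h4, h5⟩ := exists_rch_eq (lam := Ideal.Quotient.mkₐ k P ζ) (p := p) h2 h3 (IsAlgebraic.of_finite k _)
    (mt Ideal.Quotient.eq_zero_iff_mem.1 hP) (aeval_algHom_apply (Ideal.Quotient.mkₐ k P) ζ p ▸ mt Ideal.Quotient.eq_zero_iff_mem.1 hp)
  obtain ⟨α, γ, δ, o, e⟩ := h.exists_ok hx hy e
  simp only [aeval_algHom_apply] at h4 h5
  exact ⟨α, _, γ, δ, o, Ideal.Quotient.eq_zero_iff_mem.1 h5, Ideal.Quotient.eq.1 (e ▸ h4)⟩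

theorem Pr.rg (h : Pr x y ζ) (hx : Qd G x) (hy : Q G y) (hn : ¬ IsNilpotent ζ) : Rg x ζ := by
  have := IsArtinianRing.of_finite k R
  induction e : Ideal.span {ζ} using WellFoundedLT.induction generalizing y ζ with | ind I ih => ?_
  obtain ⟨P, hP, hζ⟩ : ∃ P : Ideal R, P.IsPrime ∧ ζ ∉ P := by simpa [nilpotent_iff_mem_prime] using hn
  by_cases! hc : ∃ α β γ δ, Ok G x y ζ α β γ δ ∧ β ∈ P ∧ ¬ IsNilpotent (β * ζ)
  · obtain ⟨α, β, γ, δ, o, hβ, hn'⟩ := hc
    refine Rg.of_mul (s := -β ^ 2 * ζ) (by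
      convert ih _ (e ▸ lt_of_le_not_ge (Ideal.span_singleton_le_span_singleton.2 ⟨-β ^ 2 * ζ, by ring⟩) fun e => hζ
        ((Ideal.span_singleton_le_iff_mem _).2 (neg_mem (P.pow_mem_of_mem (P.mul_mem_right _ hβ) 2 two_pos)) (e (Ideal.subset_span rfl))))
        h.pr_cv (h.cv_qd hx o).q (fun e => hn' (IsNilpotent.of_pow (neg_neg ((β * ζ) ^ 2) ▸ e.neg))) rfl using 1; ring)
  let B := {g | ∃ α β γ δ, Ok G x y ζ α β γ δ ∧ β ∈ P ∧ el x y α β γ δ = g}
  have b1 : ∀ {g g'}, g ∈ B → g' ∈ B → g * g' ∈ B := by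
    rintro _ _ ⟨α, β, γ, δ, o, hβ, rfl⟩ ⟨α', β', γ', δ', o', hβ', rfl⟩
    exact ⟨_, _, _, _, h.ok_mul o o', add_mem (add_mem hβ hβ') (P.mul_mem_left _ (add_mem (P.mul_mem_right _ hβ) (P.mul_mem_left _ hβ'))),
      h.el_mul.symm⟩
  have b2 : ∀ {g g'}, g ∈ B → g' * g = 1 → g' ∈ B := by
    rintro _ g' ⟨α, β, γ, δ, o, hβ, rfl⟩ e
    exact ⟨_, _, _, _, h.ok_inv o, neg_mem hβ, (left_inv_eq_right_inv e (inv_mem_gm o.mem (h.el_inv o)).2).symm⟩
  let S := Submodule.span k {v | ∃ g ∈ B, ∃ g', g' * g = 1 ∧ g * x * g' = v}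
  have hS : ∀ v ∈ S, Q G v := fun v => q_span (by rintro _ ⟨_, ⟨α, β, γ, δ, o, hβ, rfl⟩, g', e, rfl⟩; exact hx.q.conj o.mem e) (by
    rintro _ ⟨g, hg, g', e, rfl⟩ _ ⟨f, hf, f', -, rfl⟩
    obtain ⟨α, β, γ, δ, o, hβ, e⟩ := b1 (b2 hg e) hf
    rw [show _ * _ = g * (x * (g' * f) * x) * f' by simp only [mul_assoc], ← e, h.x_el_x, h.cv_mul h2 hx o (hc _ _ _ _ o hβ) hn,
      mul_zero, zero_mul])
  obtain ⟨c, c0, c1⟩ := exists_sq_ne h2 h3
  have hu : ∀ c : k, c ≠ 0 → algebraMap k R c ∉ P := fun c hc e => hP.ne_top (P.eq_top_of_isUnit_mem e (hc.isUnit.map _))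
  obtain ⟨α, β, γ, δ, o, hβ, ha⟩ := h.exists_borel h2 h3 hx.q hy hζ (C c) (by simpa using hu c c0)
  replace ha : (1 + γ * ζ) ^ 2 - 1 ∉ P := fun e => hu _ (sub_ne_zero.2 c1) (by
    convert sub_mem e (P.mul_mem_left (1 + γ * ζ + algebraMap k R c) ha) using 1; simp; ring)
  obtain ⟨t, n, h4, h5⟩ := exists_idem (k := k) ζ
  have h6 : t * ζ * β = 0 := by linear_combination t ^ 2 * (h.kill (h.cv_mul h2 hx o (hc _ _ _ _ o hβ) hn)).2.2 - β * h4
  have h7 := h.el_conj (α := α) (β := β) (γ := γ) (δ := δ)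
  have h8 : el x y (-α) (-β) δ γ = (2 + ζ * (γ + δ)) • 1 - el x y α β γ δ := by
    unfold el; linear_combination (norm := module) (γ + δ) • h.z
  have h9 := h.el_inv o
  have h10 := h.z_el (α := α) (β := β) (γ := γ) (δ := δ)
  have h11 := h.z_el (α := -α) (β := -β) (γ := δ) (δ := γ)
  have h12 : el x y α β γ δ ∈ B := ⟨_, _, _, _, o, hβ, rfl⟩
  have h13 := (inv_mem_gm o.mem h9).2
  generalize el x y α β γ δ = g, el x y (-α) (-β) δ γ = g' at h7 h8 h9 h10 h11 h12 h13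
  let D := fun v => g * v * g' - v
  let J := fun v => v ∈ S ∧ ∃ r ∉ P, (t * ζ) • v = (t * ζ * r) • x
  have d1 : ∀ v, J v → J (D v) := by
    rintro v ⟨hv, r, hr, e⟩
    refine ⟨sub_mem ?_ hv, r * ((1 + γ * ζ) ^ 2 - 1), fun e => (hP.mem_or_mem e).elim hr ha, ?_⟩
    · clear e
      induction hv using Submodule.span_induction with
      | mem _ hv =>
        obtain ⟨f, hf, f', e, rfl⟩ := hv
        exact Submodule.subset_span ⟨_, b1 h12 hf, f' * g', by rw [mul_assoc, ← mul_assoc g', h9, one_mul, e], by simp only [mul_assoc]⟩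
      | zero => simp
      | add _ _ _ _ h1 h2 => simpa [mul_add, add_mul] using add_mem h1 h2
      | smul c _ _ h => simpa using S.smul_mem c h
    · rw [smul_sub, ← smul_mul_assoc, ← h10, e, h10, smul_mul_assoc, h7, cv]
      match_scalars <;> grind
  have d2 : ∀ u, Z R u → D (D (D u)) = ζ • ((γ + δ) * (4 + ζ * (γ + δ))) • (g * D u * g') := fun u hu => by
    have e1 : ∀ v, g * (g * v) = (2 + ζ * (γ + δ)) • (g * v) - v := fun v => by
      rw [h8, mul_sub, h10, mul_one, sub_eq_iff_eq_add] at h13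
      rw [← mul_assoc, ← smul_mul_assoc, h13, add_mul, one_mul, add_sub_cancel_left]
    have e2 : g' * g' = (2 + ζ * (γ + δ)) • g' - 1 := by
      rw [← h9, ← mul_one g', ← h11, mul_one, ← mul_sub, ← h8]
    have e3 : ∀ v, g' * (g' * v) = (2 + ζ * (γ + δ)) • (g' * v) - v := fun v => by rw [← mul_assoc, e2, sub_mul, smul_mul_assoc, one_mul]
    simp only [D, mul_sub, sub_mul, mul_assoc, e1, e2, e3, h10 _, h11 _, hu _, mul_one, smul_mul_assoc]
    module
  have d3 : ∀ j, ∃ u, Z R u ∧ J (ζ ^ j • u) := fun j => by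
    induction j with
    | zero => exact ⟨x, h.cx, Submodule.subset_span ⟨1, ⟨_, _, _, _, ok_x (r := 0) (by simpa using .zero), zero_mem _, by simp [el]⟩, 1, by simp⟩,
        1, (Ideal.ne_top_iff_one P).1 hP.ne_top, by simp⟩
    | succ j ih =>
      obtain ⟨u, hu, ih⟩ := ih
      refine ⟨_, ((h10.mul (((h10.mul hu).mul h11).sub hu)).mul h11).smul ((γ + δ) * (4 + ζ * (γ + δ))), ?_⟩
      rw [pow_succ, mul_smul, ← d2 u hu]
      simpa only [D, h10 _, smul_mul_assoc, ← smul_sub] using d1 _ (d1 _ (d1 _ ih))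
  obtain ⟨u, -, h14, r, hr, e⟩ := d3 n
  rw [smul_smul, mul_comm, h5] at e
  refine Rg.of_mul (s := t * r) (mul_right_comm t r ζ ▸ hx.rg h.cx (hS _ h14) (fun e' => ?_) (e ▸ le_rfl))
  exact (hP.mem_or_mem (h.mem_of_kill (e ▸ e') hζ)).elim (fun e => hζ (hP.mem_of_pow_mem n (h5 ▸ P.mul_mem_left _ e))) hr

theorem Pr.all (h : Pr x y ζ) (hx : Qd G x) (hy : Q G y) (ht : Algebra.adjoin k {ζ} = ⊤) [hP : P.IsMaximal] (hζ : ζ ∉ P) :
    (∀ r : R, Q G (r • x)) ∧ ∀ r : R, r • x = 0 ↔ r ∈ P := by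
  have hn : ¬ IsNilpotent ζ := fun ⟨n, e⟩ => hζ (hP.isPrime.mem_of_pow_mem n (e ▸ P.zero_mem))
  have k0 : ∀ r ∈ P, ¬ Rg x r := fun r hr e => by
    obtain ⟨s, e⟩ := e.exists_inv
    exact (Ideal.ne_top_iff_one P).1 hP.ne_top (by
      simpa using add_mem (h.mem_of_kill (r := 1 - s * r) (by rw [sub_smul, e, one_smul, sub_self]) hζ) (P.mul_mem_left s hr))
  have k1 : ∀ {α β γ δ}, Ok G x y ζ α β γ δ → β ∈ P → β • x = 0 := fun o hβ => h.rg h2 h3 hx hy hn _ (h.cv_mul h2 hx o (by_contra fun e =>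
    k0 _ (neg_mem (P.pow_mem_of_mem (P.mul_mem_right _ hβ) 2 two_pos)) (h.pr_cv.rg h2 h3 hx (h.cv_qd hx o).q fun e' =>
      e (IsNilpotent.of_pow (neg_neg (_ ^ 2 : R) ▸ e'.neg)))) hn)
  have k2 : ∀ r s : R, r • x * s • x = 0 := fun r s => by simp only [smul_mul_assoc, h.sm, smul_zero]
  let L : Subalgebra k R :=
    { carrier := {l | ∀ r : R, Q G (r • x) → Q G ((l * r) • x)}
      mul_mem' := fun ha hb r hr => mul_assoc _ _ r ▸ ha _ (hb r hr)
      add_mem' := fun ha hb r hr => by rw [add_mul, add_smul]; exact (ha r hr).add (hb r hr) (k2 _ _) (k2 _ _)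
      algebraMap_mem' := fun s r hr => by rw [mul_smul, algebraMap_smul]; exact hr.smul s }
  have k3 : ∀ μ : R, ∃ l ∈ L, l - μ ^ 2 ∈ P := fun μ => by
    obtain ⟨p, rfl⟩ : ∃ p : k[X], aeval ζ p = μ := by simpa [Algebra.adjoin_singleton_eq_range_aeval] using ht.ge (Algebra.mem_top (x := μ))
    by_cases e : aeval ζ p ∈ P
    · exact ⟨0, zero_mem _, by simpa using P.pow_mem_of_mem e 2 two_pos⟩
    obtain ⟨α, β, γ, δ, o, hβ, ha⟩ := h.exists_borel h2 h3 hx.q hy hζ p e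
    refine ⟨(1 + γ * ζ) ^ 2, fun r hr => ?_, by convert P.mul_mem_left (1 + γ * ζ + aeval ζ p) ha using 1; ring⟩
    have := h.kill (k1 o hβ)
    convert hr.conj o.mem (h.el_inv o) using 1
    rw [h.z_el, smul_mul_assoc, h.el_conj, cv]
    linear_combination (norm := module) (r * (1 + γ * ζ)) • (this.1 - this.2.1) + (r * β * this.2.2) • y
  obtain ⟨μ, i, hi, e⟩ := hP.exists_inv hζ
  obtain ⟨l, hl, h4⟩ : ∃ l ∈ L, l - μ ∈ P := by
    obtain ⟨l0, h0, e0⟩ := k3 μ
    obtain ⟨l1, h1, e1⟩ := k3 (μ + 1)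
    refine ⟨(2 : k)⁻¹ • (l1 - l0 - 1), L.smul_mem (sub_mem (sub_mem h1 h0) L.one_mem) _, ?_⟩
    convert P.smul_of_tower_mem (2 : k)⁻¹ (sub_mem e1 e0) using 1
    rw [eq_inv_smul_iff₀ h2, smul_sub, smul_inv_smul₀ h2, two_smul]; ring
  have hy' : Ok G x y ζ 0 1 0 0 := ok_y (by rwa [one_smul])
  have h5 := k1 (h.ok_mul hy' (h.ok_mul (ok_x ((L.neg_mem (add_mem hl hl)) 1 (by simpa using hx.q))) hy')) (by
    convert P.mul_mem_left 2 (sub_mem hi (P.mul_mem_left ζ h4)) using 1; linear_combination -2 * e)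
  replace h5 : (l * ζ) • x = x := by
    rw [← sub_eq_zero, ← smul_eq_zero_iff_right h2, two_smul]; linear_combination (norm := module) -h5
  obtain ⟨t, n, -, h6⟩ := exists_idem (k := k) (⟨l, hl⟩ : L)
  replace h6 : l ^ n * (t * l) = l ^ n := congrArg Subtype.val h6
  have h7 := Rg.pow (x := x) (r := l) (fun s e => by rw [← h5, smul_smul, ← mul_assoc, mul_comm, mul_smul, e, smul_zero]) n (t * l - 1)
    (by rw [show (t * l - 1) * l ^ n = 0 by linear_combination h6, zero_smul])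
  have h8 : ∀ r : R, Q G (r • x) := fun r => mul_one r ▸ (Algebra.adjoin_le (S := L) (Set.singleton_subset_iff.2 fun r hr => by
    convert t.2 r hr using 1
    linear_combination (norm := module) (r * t) • h5 - (r * ζ) • h7) (ht.ge trivial)) 1 (by simpa using hx.q)
  exact ⟨h8, fun r => ⟨fun e => h.mem_of_kill e hζ, fun hr => by_contra fun e => k0 r hr (hx.rg h.cx (h8 r) e le_rfl)⟩⟩

omit h2 h3 in
theorem exists_sl2 {K : Type*} [Field K] (π : R →+* K) (hπ : Function.Surjective π) (xx : x * x = 0) (yy : y * y = 0)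
    (e1 : x * y * x = x) (e2 : y * x * y = y) (cx : Z R x) (cy : Z R y) (hk : ∀ r : R, r • x = 0 ↔ π r = 0) :
    ∃ φ : Matrix.SpecialLinearGroup (Fin 2) K →* (End k M)ˣ, Function.Injective φ ∧ ∀ (r : R) g,
      (g.1 = !![1, π r; 0, 1] → (φ g).1 = 1 + r • x) ∧ (g.1 = !![1, 0; π r, 1] → (φ g).1 = 1 + r • y) := by
  rw [mul_assoc] at e1 e2
  have s : (∀ t, x * (x * t) = 0) ∧ (∀ t, y * (y * t) = 0) ∧ (∀ t, x * (y * (x * t)) = x * t) ∧ (∀ t, y * (x * (y * t)) = y * t) :=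
    ⟨fun t => by rw [← mul_assoc, xx, zero_mul], fun t => by rw [← mul_assoc, yy, zero_mul],
      fun t => by rw [← mul_assoc y, ← mul_assoc, e1], fun t => by rw [← mul_assoc x, ← mul_assoc, e2]⟩
  let F := fun a b c d : R => 1 - x * y - y * x + (a • (x * y) + b • x + c • y + d • (y * x))
  have h1 : ∀ {a b}, π a = π b → a • x = b • x := fun e => by rw [← sub_eq_zero, ← sub_smul, hk, map_sub, e, sub_self]
  have h2 : ∀ {a b c d a' b' c' d'}, π a = π a' → π b = π b' → π c = π c' → π d = π d' → F a b c d = F a' b' c' d' := fun ha hb hc hd => by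
    have := congrArg (y * · * y) (h1 hc)
    simp only [cy _, smul_mul_assoc, mul_assoc, e2] at this
    simp only [F]
    rw [← smul_mul_assoc, h1 ha, h1 hb, ← cy, h1 hd, this, cy, smul_mul_assoc]
  choose σ hσ using hπ
  let ψ : Matrix.SpecialLinearGroup (Fin 2) K →* End k M :=
    { toFun := fun g => F (σ (g 0 0)) (σ (g 0 1)) (σ (g 1 0)) (σ (g 1 1))
      map_one' := (h2 (a' := 1) (b' := 0) (c' := 0) (d' := 1) (by simp [hσ]) (by simp [hσ]) (by simp [hσ]) (by simp [hσ])).trans (by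
        simp only [F]; module)
      map_mul' := fun g h => (h2 (a' := σ (g 0 0) * σ (h 0 0) + σ (g 0 1) * σ (h 1 0)) (b' := σ (g 0 0) * σ (h 0 1) + σ (g 0 1) * σ (h 1 1))
        (c' := σ (g 1 0) * σ (h 0 0) + σ (g 1 1) * σ (h 1 0)) (d' := σ (g 1 0) * σ (h 0 1) + σ (g 1 1) * σ (h 1 1))
        (by simp [hσ, Matrix.mul_apply]) (by simp [hσ, Matrix.mul_apply]) (by simp [hσ, Matrix.mul_apply])
        (by simp [hσ, Matrix.mul_apply])).trans (by
          simp only [F, mul_add, add_mul, mul_sub, sub_mul, smul_mul_assoc, mul_assoc, cx _, cy _, s, xx, yy, e1, e2, mul_one, one_mul,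
            mul_zero, smul_zero]
          module) }
  refine ⟨ψ.toHomUnits, (injective_iff_map_eq_one _).2 fun g e => ?_, fun r g => ⟨fun e => ?_, fun e => ?_⟩⟩
  · replace e : F (σ (g 0 0)) (σ (g 0 1)) (σ (g 1 0)) (σ (g 1 1)) = 1 := congrArg Units.val e
    have h3 := congrArg (x * y * · * x) e
    have h4 := congrArg (x * y * · * (y * x)) e
    have h5 := congrArg (x * · * x) e
    have h6 := congrArg (x * · * (y * x)) e
    simp only [F, mul_add, add_mul, mul_sub, sub_mul, smul_mul_assoc, mul_assoc, cx _, cy _, s, xx, yy, e1, e2, mul_one,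
      mul_zero, zero_mul, smul_zero] at h3 h4 h5 h6
    ext i j
    fin_cases i <;> fin_cases j
    · simpa [sub_eq_zero, hσ] using (hk (σ (g 0 0) - 1)).1 (by linear_combination (norm := module) h3)
    · simpa [hσ] using (hk (σ (g 0 1))).1 (by linear_combination (norm := module) h4)
    · simpa [hσ] using (hk (σ (g 1 0))).1 (by linear_combination (norm := module) h5)
    · simpa [sub_eq_zero, hσ] using (hk (σ (g 1 1) - 1)).1 (by linear_combination (norm := module) h6)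
  · exact (h2 (a' := 1) (b' := r) (c' := 0) (d' := 1) (by simp [hσ, e]) (by simp [hσ, e]) (by simp [hσ, e]) (by simp [hσ, e])).trans (by
      simp only [F]; module)
  · exact (h2 (a' := 1) (b' := 0) (c' := r) (d' := 1) (by simp [hσ, e]) (by simp [hσ, e]) (by simp [hσ, e]) (by simp [hσ, e])).trans (by
      simp only [F]; module)

open scoped IsMulCommutative

omit h2 h3 in
theorem pr_adjoin (hx : x * x = 0) (hy : y * y = 0) :
    Pr x y (⟨_, Algebra.self_mem_adjoin_singleton k _⟩ : Algebra.adjoin k {x * y + y * x}) ∧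
      Algebra.adjoin k {(⟨_, Algebra.self_mem_adjoin_singleton k _⟩ : Algebra.adjoin k {x * y + y * x})} = ⊤ := by
  have h1 : ∀ u : End k M, Commute u (x * y + y * x) → Z (Algebra.adjoin k {x * y + y * x}) u := fun u h r t =>
    (Algebra.commute_of_mem_adjoin_singleton_of_commute r.2 h).left_comm t
  refine ⟨⟨hx, hy, (mul_one _).symm, h1 x ?_, h1 y ?_, fun r e => Subtype.ext ((mul_one _).symm.trans e)⟩, top_le_iff.1 fun r _ => ?_⟩
  · simp [Commute, SemiconjBy, mul_add, add_mul, ← mul_assoc, hx, mul_assoc y]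
  · simp [Commute, SemiconjBy, mul_add, add_mul, ← mul_assoc, hy, mul_assoc x y y]
  · obtain ⟨p, e⟩ := (Algebra.adjoin_singleton_eq_range_aeval k _).le r.2
    exact (Algebra.adjoin_singleton_eq_range_aeval k _).ge ⟨p, Subtype.ext ((aeval_algHom_apply (Subalgebra.val _) _ p).symm.trans e)⟩

omit h3 in
theorem Qd.mul_eq_zero (hx : Qd G x) (hy : Q G y) (hn : IsNilpotent (x * y + y * x)) : x * y * x = 0 := by
  have h := (pr_adjoin hx.q.sq hy.sq).1
  rw [mul_assoc, h.xyx]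
  exact h.smul_eq_zero h2 hx hy (hn.imp fun _ => Subtype.ext)

omit h3 in
theorem Qd.mul_symm (hx : Qd G x) (hy : Q G y) (h : y * x * y = 0) : x * y * x = 0 := hx.mul_eq_zero h2 hy ⟨2, by
  have := (pr_adjoin hx.q.sq hy.sq).1
  rw [mul_assoc] at h
  simp only [sq, mul_add, add_mul, mul_assoc, this.sm.2.2.2.2.1, this.sm.2.2.2.2.2.1, h, mul_zero, add_zero, zero_add]
  rw [← mul_assoc x, ← mul_assoc, h, zero_mul]⟩

theorem Qd.exists_partner (hx : Qd G x) (hy : Q G y) (h0 : x * y * x ≠ 0) : ∃ u ∈ Es G x, u ≠ 0 ∧ u * y * u = u := by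
  obtain ⟨h, ht⟩ := pr_adjoin hx.q.sq hy.sq
  have hn := mt (h.smul_eq_zero h2 hx hy) (h.xyx ▸ mul_assoc x y x ▸ h0)
  obtain ⟨s, e⟩ := (h.rg h2 h3 hx hy hn).exists_inv
  have := IsArtinianRing.of_finite k (Algebra.adjoin k {x * y + y * x})
  obtain ⟨P, hP, hζ⟩ := not_forall₂.1 (mt nilpotent_iff_mem_prime.2 hn)
  refine ⟨s • x, mem_Es hx.q.sq ((h.all h2 h3 hx hy ht hζ).1 s) (h.cx.range_le s) ker_le_mul, fun e' => hx.ne ?_, ?_⟩
  · rw [← e, mul_comm, mul_smul, e', smul_zero]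
  · simp only [smul_mul_assoc, mul_assoc, h.sm]
    rw [← mul_smul s, ← mul_smul, mul_assoc, mul_smul, e]

end Cfsg.Lib.Quad
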