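import Cfsg.Agent.Lib.Quad.Roots
import Cfsg.Agent.Lib.Root.Class

/-!
# Pairs of root subgroups of a quadratic pair
-/

set_option autoImplicit false
set_option linter.unusedSectionVars false

namespace Cfsg.Lib.Quad

open Module LinearMap Cfsg.Lib.Root Cfsg.Lib.Transfer
open scoped commutatorElement

universe u

variable {k M : Type u} [Field k] [AddCommGroup M] [Module k M] [FiniteDimensional k M] {G A B : Subgroup (End k M)ˣ}
  {x y u v w : End k M}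

theorem comm_ux (hv : v * v = 0) (hu : u * u = 0) (h : v * u * v = 0) (h' : u * v * u = 0) : ⁅ux hv, ux hu⁆.1 = 1 + (v * u - u * v) := by
  simp only [commutatorElement_def, Units.val_mul, ux_val, ux_inv, mul_sub, mul_add, add_mul, mul_assoc, sub_mul, mul_one, one_mul, tri_s h,
    tri_s h', hv, hu, sq_s hv, zero_mul, mul_zero]
  abel

theorem comm_Eg_bot (h : ∀ v ∈ Es G x, ∀ u ∈ Es G y, v * u = u * v) : ⁅Eg G x, Eg G y⁆ = ⊥ :=
  comm_bot_iff.2 (forall_Eg.2 fun v hv => forall_Eg.2 fun u hu => Units.ext (by simp [mul_add, add_mul, h v hv u hu]; abel))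

variable (h2 : (2 : k) ≠ 0) (h3 : Nat.card k ≠ 3)
include h2 h3

theorem NC.comm_eq (h : NC G x y) (hG : IC G) : ⁅Eg G x, Eg G y⁆ = Eg G (x * y - y * x) ∧ ∀ c ∈ Eg G (x * y - y * x), ∃ a ∈ Eg G x,
    ⁅a, ux h.r.q.sq⁆ = c := by
  have key : ∀ v (hv : v ∈ Es G x) u (hu : u ∈ Es G y), ⁅ux hv.1.sq, ux hu.1.sq⁆.1 = 1 + (v * u - u * v) := fun v hv u hu =>
    comm_ux _ _ (h.l.triple h2 h.r h.z hv hu hv) (h.r.triple h2 h.l (h.symm h2).z hu hv hu)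
  have h4 : ∀ c ∈ Eg G (x * y - y * x), ∃ a ∈ Eg G x, ⁅a, ux h.r.q.sq⁆ = c := fun c hc =>
    let ⟨v, hv, e⟩ := h.surj h2 h3 hG _ hc
    ⟨_, ux_mem_Eg hv, Units.ext (by rw [key v hv y h.r.q.mem_Es, e, add_sub_cancel])⟩
  refine ⟨(Subgroup.commutator_le.2 (forall_Eg.2 fun v hv => forall_Eg.2 fun u hu => ?_)).antisymm fun c hc => ?_, h4⟩
  · rw [mem_Eg, key v hv u hu, add_sub_cancel_left]; exact h.mem h2 hv hu
  · obtain ⟨a, ha, rfl⟩ := h4 c hc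
    exact Subgroup.commutator_mem_commutator ha (ux_mem_Eg h.r.q.mem_Es)

omit h3 in
theorem NC.nl_le (h : NC G x y) : nl k (Eg G x ⊔ Eg G y) ≤ uw (x * y - y * x) :=
  nl_sup_le uw_mul (nl_Eg.le.trans (h.le_uw h2)) (nl_Eg.le.trans (h.le_uw' h2))

omit h3 in
theorem NC.cen (h : NC G x y) {c g : (End k M)ˣ} (hc : c ∈ Eg G (x * y - y * x)) (hg : g ∈ Eg G x ⊔ Eg G y) : c * g = g * c := by
  have h4 := h.nl_le h2 (mem_nl hg)
  refine Units.ext ?_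
  rw [Units.val_mul, Units.val_mul]
  linear_combination (norm := noncomm_ring) Es_r hc h4.1 - Es_l hc h4.2.1

theorem NC.cm (h : NC G x y) (hG : IC G) : CM (quadraticRootSubgroups G) (Eg G x) (Eg G y) := by
  have key : ∀ {x y}, NC G x y → ∀ b ∈ Eg G y, b ≠ 1 → ∀ c ∈ ⁅Eg G x, Eg G y⁆, ∃ a ∈ Eg G x, ⁅a, b⁆ = c := fun h =>
    forall_Eg.2 fun u hu h0 c hc => by
      have := (h.of_mem h2 h3 h.l.q.mem_Es hu h.l.ne ((ux_ne_one _).1 h0)).comm_eq h2 h3 hG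
      rw [h.r.Eg_eq hu ((ux_ne_one _).1 h0)] at this
      exact this.2 c (this.1 ▸ hc)
  refine ⟨mem_roots.2 ⟨_, h.qd h2, (h.comm_eq h2 h3 hG).1.symm⟩, fun hc hg => h.cen h2 ((h.comm_eq h2 h3 hG).1 ▸ hc) hg, fun ha h0 hc => ?_,
    fun hb h0 hc => key h _ hb h0 _ hc⟩
  obtain ⟨b, hb, e⟩ := key (h.symm h2) _ ha h0 _ (inv_mem (Subgroup.commutator_comm (Eg G x) _ ▸ hc))
  exact ⟨b, hb, by rw [← commutatorElement_inv, e, inv_inv]⟩

theorem NC.core (h : NC G x y) (hG : IC G) : ((Eg G x ⊔ Eg G y :) : Set (End k M)ˣ) ⊆ quadraticUnipotentCore G ⁅Eg G x, Eg G y⁆ := fun g hg => by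
  have h4 := h.nl_le h2 (mem_nl hg)
  rw [(h.comm_eq h2 h3 hG).1, quadraticUnipotentCore, fixed_Eg (h.qd h2).q, comm_Eg (h.qd h2).q]
  refine ⟨sup_le Eg_le Eg_le hg, cj_eq_iff.1 (cj_eq_of_commute fun c hc => (h.cen h2 hc hg).symm), fun m => DFunLike.congr_fun h4.1 m, h4.2.2, ?_⟩
  rintro _ ⟨m, rfl⟩
  exact sub_eq_zero.1 (DFunLike.congr_fun h4.2.1 m)

theorem Qd.nc (hx : Qd G x) (hy : Qd G y) (h : x * y * x = 0) (e : ⁅Eg G x, Eg G y⁆ ≠ ⊥) : NC G x y :=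
  ⟨hx, hy, h, fun e' => e (comm_Eg_bot fun _ hv _ hu => hx.commute h2 h3 hy hx.q.mem_Es hx.ne (by
    rw [cj_Eg hx.q.ux_mem, ux_val, ux_inv, add_mul, sub_eq_zero.1 e', one_mul, ← mul_one_add, mul_assoc]
    exact congrArg _ ((congrArg _ (ux hx.q.sq).mul_inv).trans (mul_one y))) hv hu)⟩

theorem IC.tri (hG : IC G) (hA : A ∈ quadraticRootSubgroups G) (hB : B ∈ quadraticRootSubgroups G) :
    ⁅A, B⁆ = ⊥ ∨ Sp A B ∨ CM (quadraticRootSubgroups G) A B := by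
  obtain ⟨x, hx, rfl⟩ := mem_roots.1 hA
  obtain ⟨y, hy, rfl⟩ := mem_roots.1 hB
  exact or_iff_not_imp_left.2 fun e => (em _).symm.imp (hx.sp h2 h3 hy) fun h => (hx.nc h2 h3 hy h e).cm h2 h3 hG

theorem Qd.opp_of_rk (hx : Qd G x) (hy : Qd G y) (hG : IC G) (h : RK (Eg G x) (Eg G y)) : x * y * x ≠ 0 := fun e => by
  have H := (hx.nc h2 h3 hy e h.comm_ne_bot).cm h2 h3 hG
  obtain ⟨a, ha, h0⟩ := h.exists_ne_one
  obtain ⟨b, hb, h1⟩ := h.symm.exists_ne_one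
  exact (h.symm.cj_right hb h1).1.not_commute ha h0 (conj_mem_cj.2 ha) (by simpa using h0) (by
    rw [conj_eq_comm, ← mul_assoc, ← H.symm.cr (Subgroup.commutator_mem_commutator hb ha) ha])

theorem Qd.psl2 (hx : Qd G x) (hy : Qd G y) (h : x * y * x ≠ 0) :
    ∃ A₀ B₀, A₀ ≤ Eg G x ∧ B₀ ≤ Eg G y ∧ ∃ (k₁ : Type u) (_ : Field k₁), 3 < ENat.card k₁ ∧ IsPSL2PairOver k₁ A₀ B₀ := by
  obtain ⟨u, hu, e1, e2⟩ := hx.partner h2 h3 hy h hx.q.mem_Es hx.ne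
  obtain ⟨φ, h4, h5⟩ := exists_sl2 (RingHom.id k) Function.surjective_id hx.q.sq hu.1.sq e1 e2 (fun _ _ => mul_smul_comm _ _ _)
    (fun _ _ => mul_smul_comm _ _ _) fun r => by simp [hx.ne]
  refine ⟨_, _, ?_, ?_, k, inferInstance, three_lt h2 h3, psl2_of_hom φ rfl rfl fun e => sl2_sp.rk.ne (Subgroup.map_injective h4 e)⟩ <;>
    rintro _ ⟨g, hg, rfl⟩
  · obtain ⟨t, rfl⟩ := mem_upper.1 hg
    rw [mem_Eg, (h5 t _).1 rfl, add_sub_cancel_left]; exact Submodule.smul_mem _ t hx.q.mem_Es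
  · obtain ⟨t, rfl⟩ := mem_lower.1 hg
    rw [mem_Eg, (h5 t _).2 rfl, add_sub_cancel_left]; exact Submodule.smul_mem _ t hu

theorem Qd.not_un (hx : Qd G x) (hy : Qd G y) (h : x * y * x ≠ 0) : ¬ Un k (Eg G x ⊔ Eg G y) :=
  let ⟨_, hu, e, _⟩ := hx.partner h2 h3 hy h hx.q.mem_Es hx.ne
  Quad.not_un (nl_mono le_sup_left (nl_Eg.ge hx.q.mem_Es)) (nl_mono le_sup_right (nl_Eg.ge hu)) e hx.ne

end Cfsg.Lib.Quad
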