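import Cfsg.Agent.Lib.Root.RankOne

/-!
# Unipotent groups of units in finite dimensional algebras
-/

set_option autoImplicit false
set_option linter.unusedSectionVars false

namespace Cfsg.Lib.Quad

open Submodule Cfsg.Lib.Transfer

variable {k A : Type*} [Field k] [Ring A] [Algebra k A] {D G H V : Subgroup Aˣ} {N N' : Submodule k A} {g : Aˣ}

variable (k) in
/-- The augmentation algebra of a group of units. -/
def nl (H : Subgroup Aˣ) : Submodule k A := span k ((fun g : Aˣ => (g : A) - 1) '' H)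

variable (k) in
/-- Unipotent groups. -/
def Un (H : Subgroup Aˣ) : Prop := ∃ n, nl k H ^ n = ⊥

theorem mem_nl (h : g ∈ H) : (g : A) - 1 ∈ nl k H := subset_span ⟨g, h, rfl⟩

theorem nl_le : nl k H ≤ N ↔ ∀ g ∈ H, (g : A) - 1 ∈ N := span_le.trans Set.forall_mem_image

theorem nl_mono (h : H ≤ G) : nl k H ≤ nl k G := nl_le.2 fun _ hg => mem_nl (h hg)

theorem nl_mul_nl (h : ∀ g ∈ H, ∀ h ∈ G, ((g : A) - 1) * ((h : A) - 1) ∈ N) : nl k H * nl k G ≤ N := by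
  rw [nl, nl, span_mul_span, span_le]
  rintro _ ⟨_, ⟨g, hg, rfl⟩, _, ⟨g', hg', rfl⟩, rfl⟩
  exact h g hg g' hg'

theorem nl_mul : nl k H * nl k H ≤ nl k H := nl_mul_nl fun g hg h hh => by
  convert sub_mem (sub_mem (mem_nl (k := k) (mul_mem hg hh)) (mem_nl hg)) (mem_nl hh) using 1
  rw [Units.val_mul]; noncomm_ring

/-- The algebra group of a subalgebra without unit. -/
def ug (hN : N * N ≤ N) : Subgroup Aˣ where
  carrier := {g | (g : A) - 1 ∈ N ∧ ((g⁻¹ :) : A) - 1 ∈ N}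
  one_mem' := by simp
  inv_mem' h := ⟨h.2, h.1⟩
  mul_mem' {g h} hg hh := ⟨by
    convert add_mem (add_mem (hN (mul_mem_mul hg.1 hh.1)) hg.1) hh.1 using 1
    rw [Units.val_mul]; noncomm_ring, by
    convert add_mem (add_mem (hN (mul_mem_mul hh.2 hg.2)) hg.2) hh.2 using 1
    rw [mul_inv_rev, Units.val_mul]; noncomm_ring⟩

theorem le_ug (hN : N * N ≤ N) : H ≤ ug hN ↔ nl k H ≤ N :=
  ⟨fun h => nl_le.2 fun _ hg => (h hg).1, fun h _ hg => ⟨h (mem_nl hg), h (mem_nl (inv_mem hg))⟩⟩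

theorem nl_sup_le (hN : N * N ≤ N) (h1 : nl k H ≤ N) (h2 : nl k G ≤ N) : nl k (H ⊔ G) ≤ N :=
  (le_ug hN).1 (sup_le ((le_ug hN).2 h1) ((le_ug hN).2 h2))

theorem nl_iSup_le {W : Set (Subgroup Aˣ)} (hN : N * N ≤ N) (h : ∀ B ∈ W, nl k B ≤ N) : nl k (⨆ B ∈ W, B) ≤ N :=
  (le_ug hN).1 (iSup₂_le fun B hB => (le_ug hN).2 (h B hB))

theorem Un.of_le (h : Un k G) (h' : nl k H ≤ nl k G) : Un k H := h.elim fun n e => ⟨n, le_bot_iff.1 (e ▸ pow_le_pow_left' h' n)⟩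

theorem Un.mono (h : Un k G) (h' : H ≤ G) : Un k H := h.of_le (nl_mono h')

theorem un_iff {M : Type*} [AddCommGroup M] [Module k M] {H : Subgroup (LinearMap.GeneralLinearGroup k M)} :
    IsUnipotentOn H ↔ Un k H := by
  refine exists_congr fun n => ⟨fun h => ?_, fun h l hl e => ?_⟩
  · rw [nl, span_pow, span_eq_bot]
    intro x hx
    obtain ⟨f, rfl⟩ := Set.mem_pow.1 hx
    choose g hg e using fun i => (f i).2
    have := h (List.ofFn g) (by simpa [List.mem_ofFn] using hg) (by simp)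
    simpa [← e, ← List.map_eq_flatMap, Function.comp_def] using this
  · refine (mem_bot k).1 (h ▸ e ▸ ?_)
    clear e h
    induction l with
    | nil => simp [one_le.1 le_rfl]
    | cons a l ih =>
      rw [List.length_cons, pow_succ']
      exact mul_mem_mul (mem_nl (hl a (by simp))) (ih fun g hg => hl g (by simp [hg]))

theorem Un.sup (hD : Un k D) (hV : Un k V) (h : ∀ v ∈ V, ∀ d ∈ D, v * d * v⁻¹ ∈ D) : Un k (D ⊔ V) := by
  obtain ⟨m, hm⟩ := hD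
  obtain ⟨n, hn⟩ := hV
  set T := 1 ⊔ nl k V
  have h0 : ∀ v ∈ V, (v : A) ∈ T := fun v hv => by
    simpa using add_mem (mem_sup_right (mem_nl hv) : _ ∈ T) (mem_sup_left (one_le.1 le_rfl))
  have h1 : T * T ≤ T := by
    simp only [T, Submodule.mul_sup, Submodule.sup_mul, mul_one, one_mul, sup_le_iff, le_sup_left, le_sup_right, true_and]
    exact nl_mul.trans le_sup_right
  have h2 : T * nl k D ≤ nl k D * T := by
    rw [Submodule.sup_mul, Submodule.mul_sup, one_mul, mul_one]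
    refine sup_le le_sup_left ((nl_mul_nl fun v hv d hd => ?_).trans (by rw [← mul_one (nl k D), mul_assoc, one_mul, ← Submodule.mul_sup]))
    convert sub_mem (mul_mem_mul (mem_nl (h v hv d hd)) (h0 v hv)) (mul_mem_mul (mem_nl hd) (h0 1 (one_mem _))) using 1
    simp [sub_mul, mul_sub]; abel
  have h3 : ∀ P : Submodule k A, P * T * (nl k D * T) ≤ P * nl k D * T := fun P => calc
    _ = P * (T * nl k D * T) := by simp only [mul_assoc]
    _ ≤ P * (nl k D * T * T) := by gcongr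
    _ = P * nl k D * (T * T) := by simp only [mul_assoc]
    _ ≤ _ := by gcongr
  have h4 : ∀ j, (nl k D * T) ^ j ≤ nl k D ^ j * T := fun j => by
    induction j with
    | zero => simp [T]
    | succ j ih => rw [pow_succ, pow_succ]; exact (mul_le_mul_left ih _).trans (h3 _)
  have h5 : nl k V ≤ T := le_sup_right
  have h6 : ∀ P ≤ T, (nl k D * T ⊔ P) * (nl k D * T ⊔ nl k V) ≤ nl k D * T ⊔ P * nl k V := fun P hP => by
    rw [Submodule.mul_sup, Submodule.sup_mul, Submodule.sup_mul]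
    refine sup_le ((sup_le ((h3 _).trans (mul_le_mul_left nl_mul _)) ?_).trans le_sup_left) (sup_le_sup_right ?_ _)
    · simpa using (mul_le_mul_left hP _).trans ((one_mul T).ge.trans' le_rfl |> fun h => (mul_le_mul_left h _).trans (h3 1))
    · rw [mul_assoc]; exact mul_le_mul_right ((mul_le_mul_right h5 _).trans h1) _
  have h7 : ∀ j, nl k V ^ j ≤ T ∧ (nl k D * T ⊔ nl k V) ^ j ≤ nl k D * T ⊔ nl k V ^ j := fun j => by
    induction j with
    | zero => simp [T]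
    | succ j ih => rw [pow_succ, pow_succ]; exact ⟨(mul_le_mul' ih.1 h5).trans h1, (mul_le_mul_left ih.2 _).trans (h6 _ ih.1)⟩
  refine ⟨n * m, le_bot_iff.1 ((pow_le_pow_left' (nl_sup_le ((h6 _ h5).trans (sup_le_sup_left nl_mul _)) ?_ le_sup_right) _).trans ?_)⟩
  · exact le_sup_of_le_left ((mul_one _).ge.trans (mul_le_mul_right le_sup_left _))
  · rw [pow_mul]
    exact (pow_le_pow_left' ((h7 n).2.trans (by rw [hn, sup_bot_eq])) m).trans ((h4 m).trans (by rw [hm, bot_mul]))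

theorem exists_norm {W : Set (Subgroup Aˣ)} (hWG : ∀ B ∈ W, B ≤ G) (hW : ∀ B ∈ W, ∀ g ∈ G, cj g B ∈ W) (hN : N * N ≤ N)
    (hN' : N' * N' ≤ N') (h : N ≤ N') {n : ℕ} (hn : N' ^ n = ⊥) (hB : ∃ B ∈ W, nl k B ≤ N' ∧ ¬ nl k B ≤ N) :
    ∃ B ∈ W, nl k B ≤ N' ∧ ¬ nl k B ≤ N ∧ ∀ b ∈ B, ∀ C ∈ W, nl k C ≤ N → nl k (cj b C) ≤ N := by
  by_contra! hc
  have h0 : ∀ i, N' ^ (i + 1) ≤ N' := fun i => by
    induction i with
    | zero => simp
    | succ i ih => rw [pow_succ]; exact (mul_le_mul_left ih _).trans hN'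
  have key : ∀ i, ∃ B ∈ W, nl k B ≤ N ⊔ N' ^ (i + 1) ∧ ¬ nl k B ≤ N := fun i => by
    induction i with
    | zero => simpa [h] using hB
    | succ i ih =>
      obtain ⟨B, h1, h2, h3⟩ := ih
      obtain ⟨b, hb, C, hC, h4, h5⟩ := hc B h1 (h2.trans (sup_le h (h0 i))) h3
      refine ⟨_, hW C hC b (hWG B h1 hb), nl_le.2 fun c hc => ?_, h5⟩
      obtain ⟨c, hc, rfl⟩ := hc
      have h6 : (N ⊔ N' ^ (i + 1)) * N ≤ N ⊔ N' ^ (i + 1 + 1) := by
        rw [Submodule.sup_mul, pow_succ _ (i + 1)]; exact sup_le_sup hN (mul_le_mul_right h _)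
      have h7 : (N ⊔ N' ^ (i + 1 + 1)) * (N ⊔ N' ^ (i + 1)) ≤ N ⊔ N' ^ (i + 1 + 1) := by
        rw [Submodule.sup_mul, Submodule.mul_sup]
        refine sup_le (sup_le_sup hN (pow_succ' N' (i + 1) ▸ mul_le_mul_left h _)) (le_sup_of_le_right ?_)
        rw [pow_succ _ (i + 1), mul_assoc]
        exact mul_le_mul_right ((mul_le_mul_right (sup_le h (h0 i)) _).trans hN') _
      have h8 := add_mem (h6 (mul_mem_mul (h2 (mem_nl hb)) (h4 (mem_nl hc)))) (mem_sup_left (h4 (mem_nl hc)))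
      convert add_mem (h7 (mul_mem_mul h8 (h2 (mem_nl (inv_mem hb))))) h8 using 1
      simp [mul_sub, sub_mul, add_mul]; abel
  obtain ⟨B, -, h1, h2⟩ := key n
  exact h2 (by rwa [pow_succ, hn, bot_mul, sup_bot_eq] at h1)

theorem un_iSup [Module.Finite k A] {W : Set (Subgroup Aˣ)} (hWG : ∀ B ∈ W, B ≤ G) (hW : ∀ B ∈ W, ∀ g ∈ G, cj g B ∈ W)
    (h : ∀ B ∈ W, ∀ C ∈ W, Un k (B ⊔ C)) : Un k (⨆ B ∈ W, B) := by
  let g := fun X : Set (Subgroup Aˣ) => ⨆ B ∈ X, B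
  have hg : ∀ {X B}, B ∈ X → nl k B ≤ nl k (g X) := fun hB => nl_mono (le_iSup₂_of_le _ hB le_rfl)
  obtain ⟨_, ⟨X, ⟨hX, hu⟩, rfl⟩, hm⟩ := wellFounded_gt.has_min ((fun X => nl k (g X)) '' {X | X ⊆ W ∧ Un k (g X)})
    ⟨_, ∅, ⟨by simp, 1, by simp [g, nl]⟩, rfl⟩
  refine hu.of_le (nl_iSup_le nl_mul fun B hB => by_contra fun hn => ?_)
  let w := fun Y => {B ∈ W | nl k B ≤ nl k (g Y) ⊓ nl k (g X)}
  obtain ⟨_, ⟨Y, ⟨hY, hv, hn⟩, rfl⟩, hm'⟩ := wellFounded_gt.has_min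
    ((fun Y => nl k (g (w Y))) '' {Y | Y ⊆ W ∧ Un k (g Y) ∧ ¬ nl k (g Y) ≤ nl k (g X)})
    ⟨_, {B}, ⟨by simpa, by simpa [g] using h B hB B hB, by simpa [g]⟩, rfl⟩
  have h1 : nl k (g (w Y)) ≤ nl k (g Y) ⊓ nl k (g X) :=
    le_inf (nl_iSup_le nl_mul fun _ h => h.2.trans inf_le_left) (nl_iSup_le nl_mul fun _ h => h.2.trans inf_le_right)
  obtain ⟨B, hB, h2, h3, h4⟩ := exists_norm hWG hW nl_mul nl_mul (h1.trans inf_le_left) hv.choose_spec (by
    by_contra! hc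
    exact hn (nl_iSup_le nl_mul fun B hB => (hc B (hY hB) (hg hB)).trans (h1.trans inf_le_right)))
  obtain ⟨C, hC, h5, h6, h7⟩ := exists_norm hWG hW nl_mul nl_mul (h1.trans inf_le_right) hu.choose_spec (by
    by_contra! hc
    exact hm _ ⟨Y, ⟨hY, hv⟩, rfl⟩ (lt_of_le_not_ge
      (nl_iSup_le nl_mul fun B hB => (hc B (hX hB) (hg hB)).trans (h1.trans inf_le_left)) hn))
  have h8 : ∀ B ∈ W, (∀ b ∈ B, ∀ C ∈ W, nl k C ≤ nl k (g (w Y)) → nl k (cj b C) ≤ nl k (g (w Y))) →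
      B ≤ Subgroup.normalizer (g (w Y)) := fun B hB h => by
    have : ∀ b ∈ B, cj b (g (w Y)) ≤ g (w Y) := fun b hb => by
      simp only [g, cj, Subgroup.map_iSup]
      exact iSup₂_le fun C hC => le_iSup₂_of_le _ ⟨hW C hC.1 b (hWG B hB hb), (h b hb C hC.1 (hg hC)).trans h1⟩ le_rfl
    exact fun b hb x => ⟨fun hx => this b hb ⟨x, hx, rfl⟩, fun hx => this _ (inv_mem hb) ⟨_, hx, by simp [mul_assoc]⟩⟩
  have h9 : g (w Y ∪ {B, C}) = g (w Y) ⊔ (B ⊔ C) := by simp only [g, iSup_union, iSup_insert, iSup_singleton]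
  have h10 := (hu.of_le (h1.trans inf_le_right)).sup (h B hB C hC) fun v hv d hd => (sup_le (h8 B hB h4) (h8 C hC h7) hv d).1 hd
  refine hm' _ ⟨w Y ∪ {B, C}, ⟨Set.union_subset (fun _ h => h.1) (by simp [Set.insert_subset_iff, hB, hC]), h9 ▸ h10,
    fun e => h3 (hg ⟨hB, le_inf h2 ((hg (by simp)).trans e)⟩)⟩, rfl⟩ (lt_of_le_not_ge ?_ fun e => h6 ((hg ?_).trans e))
  · exact nl_iSup_le nl_mul fun D hD => hg ⟨hD.1, le_inf (hg (Or.inl hD)) (hD.2.trans inf_le_right)⟩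
  · exact ⟨hC, le_inf (hg (by simp)) h5⟩

end Cfsg.Lib.Quad
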